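import Cfsg.Agent.Lib.RankFourL32.Natural

/-!
A radical whose commutators lie in a central subgroup of order two is abelian.
-/

set_option autoImplicit false
set_option linter.unusedSectionVars false
set_option linter.style.haveILetI false

open scoped Classical

namespace CfsgLib.RankFourL32

open Subgroup Matrix RankFourA5

variable {G : Type*} [Group G] {Q P K J A : Subgroup G} {θ : G →* GL (Fin 3) (ZMod 2)} {v : G → V3}

theorem comm_mul_left {a a' b : G} (hc : ∀ g : G, g * (a' * b * a'⁻¹ * b⁻¹) = (a' * b * a'⁻¹ * b⁻¹) * g) :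
    a * a' * b * (a * a')⁻¹ * b⁻¹ = a' * b * a'⁻¹ * b⁻¹ * (a * b * a⁻¹ * b⁻¹) := by
  rw [show a * a' * b * (a * a')⁻¹ * b⁻¹ =
    a * (a' * b * a'⁻¹ * b⁻¹) * a⁻¹ * (a * b * a⁻¹ * b⁻¹) by group, hc a, mul_inv_cancel_right]

theorem comm_mul_right {a b b' : G} (hc : ∀ g : G, g * (a * b' * a⁻¹ * b'⁻¹) = (a * b' * a⁻¹ * b'⁻¹) * g) :
    a * (b * b') * a⁻¹ * (b * b')⁻¹ = a * b * a⁻¹ * b⁻¹ * (a * b' * a⁻¹ * b'⁻¹) := by
  rw [show a * (b * b') * a⁻¹ * (b * b')⁻¹ =
    a * b * a⁻¹ * b⁻¹ * (b * (a * b' * a⁻¹ * b'⁻¹) * b⁻¹) by group, hc b, mul_inv_cancel_right]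

/-- An invariant additive map to involutions vanishes on a natural factor. -/
theorem map_const (hθ : Frame θ Q) (hv : Coords θ K J v) (φ : G → G)
    (h2 : ∀ k ∈ K, φ k * φ k = 1) (hmul : ∀ a ∈ K, ∀ b ∈ K, φ (a * b) = φ a * φ b)
    (hJ : ∀ j ∈ J, φ j = 1) (hinv : ∀ g : G, ∀ k ∈ K, φ (g * k * g⁻¹) = φ k) :
    ∀ k ∈ K, φ k = 1 := by
  haveI := hv.normal
  have hcong : ∀ a ∈ K, ∀ b ∈ K, v a = v b → φ a = φ b := fun a ha b hb e => by
    have h1 := (hv.eq_iff ha hb).1 e
    rw [show b = a * (a⁻¹ * b) by group, hmul a ha _ (hv.le h1), hJ _ h1, mul_one]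
  have hall : ∀ a ∈ K, ∀ b ∈ K, v a ≠ 0 → v b ≠ 0 → φ a = φ b := fun a ha b hb ha0 hb0 => by
    obtain ⟨M, hM, hMv⟩ := transitive _ _ ha0 hb0
    obtain ⟨g, hg⟩ := hθ.lift hM
    rw [← hinv g a ha]
    exact hcong _ (hv.normal.conj_mem a ha g) b hb (by rw [hv.conj g a ha, hg, hMv])
  intro k hk
  by_cases hk0 : v k = 0
  · exact hJ k ((hv.ker k hk).1 hk0)
  obtain ⟨w, hw0, hwk, -, -⟩ := third_point (v k) 0
  obtain ⟨k', hk', rfl⟩ := hv.surj w
  have hne : v (k * k') ≠ 0 := fun e => by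
    rw [hv.add k hk k' hk', add_eq_zero_iff] at e
    exact hwk e.symm
  rw [hall k hk _ (mul_mem hk hk') hk0 hne, hmul k hk k' hk', hall k' hk' k hk hw0 hk0, h2 k hk]

/-- Commutators constant on independent pairs vanish. -/
theorem comm_const (hθ : Frame θ Q) (hv : Coords θ K J v) (hJc : ∀ x ∈ J, ∀ k ∈ K, k * x = x * k)
    (hC : ∀ a ∈ K, ∀ b ∈ K, a * b * a⁻¹ * b⁻¹ * (a * b * a⁻¹ * b⁻¹) = 1 ∧
      ∀ g : G, g * (a * b * a⁻¹ * b⁻¹) = a * b * a⁻¹ * b⁻¹ * g) :
    ∀ a ∈ K, ∀ b ∈ K, a * b = b * a := by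
  haveI := hv.normal
  set κ : G → G → G := fun a b => a * b * a⁻¹ * b⁻¹ with hκ
  have hL : ∀ a ∈ K, ∀ a' ∈ K, ∀ b ∈ K, κ (a * a') b = κ a' b * κ a b :=
    fun a ha a' ha' b hb => comm_mul_left (hC a' ha' b hb).2
  have hR : ∀ a ∈ K, ∀ b ∈ K, ∀ b' ∈ K, κ a (b * b') = κ a b * κ a b' :=
    fun a ha b hb b' hb' => comm_mul_right (hC a ha b' hb').2
  have hJ1 : ∀ j ∈ J, ∀ b ∈ K, κ j b = 1 ∧ κ b j = 1 := fun j hj b hb => by
    simp only [hκ]
    rw [← hJc j hj b hb]
    constructor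
    · group
    · rw [hJc j hj b hb]; group
  have hcong : ∀ a ∈ K, ∀ a' ∈ K, ∀ b ∈ K, ∀ b' ∈ K, v a = v a' → v b = v b' → κ a b = κ a' b' := by
    intro a ha a' ha' b hb b' hb' e e'
    have h1 := (hv.eq_iff ha ha').1 e
    have h2 := (hv.eq_iff hb hb').1 e'
    rw [show a' = a * (a⁻¹ * a') by group, show b' = b * (b⁻¹ * b') by group,
      hL a ha _ (hv.le h1) _ (mul_mem hb (hv.le h2)), (hJ1 _ h1 _ (mul_mem hb (hv.le h2))).1, one_mul,
      hR a ha b hb _ (hv.le h2), (hJ1 _ h2 a ha).2, mul_one]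
  obtain ⟨p, hp, hvp⟩ := hv.surj ![1, 0, 0]
  obtain ⟨q, hq, hvq⟩ := hv.surj ![0, 1, 0]
  have hbase : ∀ a ∈ K, ∀ b ∈ K, v a ≠ 0 → v b ≠ 0 → v a ≠ v b → κ a b = κ p q := by
    intro a ha b hb ha0 hb0 hab
    obtain ⟨M, hM, h1, h2⟩ := transitive_pairs _ _ ha0 hb0 hab
    obtain ⟨g, hg⟩ := hθ.lift hM
    have hgp := hv.normal.conj_mem p hp g
    have hgq := hv.normal.conj_mem q hq g
    rw [hcong a ha _ hgp b hb _ hgq (by rw [hv.conj g p hp, hg, hvp, h1])
      (by rw [hv.conj g q hq, hg, hvq, h2])]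
    show g * p * g⁻¹ * (g * q * g⁻¹) * (g * p * g⁻¹)⁻¹ * (g * q * g⁻¹)⁻¹ = κ p q
    rw [show g * p * g⁻¹ * (g * q * g⁻¹) * (g * p * g⁻¹)⁻¹ * (g * q * g⁻¹)⁻¹ =
      g * κ p q * g⁻¹ by simp only [hκ]; group]
    rw [(hC p hp q hq).2 g, mul_inv_cancel_right]
  intro a ha b hb
  refine mul_inv_eq_iff_eq_mul.1 (mul_inv_eq_one.1 ?_)
  show κ a b = 1
  have hκ1 : κ 1 b = 1 := by simp [hκ]
  by_cases ha0 : v a = 0
  · exact (hJ1 a ((hv.ker a ha).1 ha0) b hb).1
  by_cases hb0 : v b = 0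
  · exact (hJ1 b ((hv.ker b hb).1 hb0) a ha).2
  by_cases hab : v a = v b
  · rw [hcong a ha a ha b hb a ha rfl hab.symm]
    simp [hκ]
  obtain ⟨w, hw0, hwa, hwb, hwab⟩ := third_point (v a) (v b)
  obtain ⟨c, hc, rfl⟩ := hv.surj w
  have e1 := hbase a ha b hb ha0 hb0 hab
  have e2 := hbase c hc b hb hw0 hb0 hwb
  have h0 : v (a * c) ≠ 0 := fun e => by
    rw [hv.add a ha c hc, add_eq_zero_iff] at e
    exact hwa e.symm
  have hne : v (a * c) ≠ v b := fun e => by
    rw [hv.add a ha c hc] at e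
    refine hwab ?_
    rw [← e, ← add_assoc, RankFourL32.add_self, zero_add]
  have e3 := hbase _ (mul_mem ha hc) b hb h0 hb0 hne
  rw [hL a ha c hc b hb, e1, e2, (hC p hp q hq).1] at e3
  rw [e1, ← e3]

theorem two_central {C : Subgroup G} [C.Normal] [Finite G] (h2 : Nat.card C = 2) {x : G} (hx : x ∈ C) :
    x * x = 1 ∧ ∀ g : G, g * x = x * g := by
  obtain ⟨z, -, -, hz2, hc⟩ := card_two_gen h2
  exact ⟨by rcases hc x hx with rfl | rfl <;> simp [hz2], fun g => central_of_card_two h2 g hx⟩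

variable [Finite G]

theorem card_eq_mul_map (N S : Subgroup G) [N.Normal] (hN : N ≤ S) :
    Nat.card S = Nat.card N * Nat.card (S.map (QuotientGroup.mk' N)) := by
  have e : (S.map (QuotientGroup.mk' N)).comap (QuotientGroup.mk' N) = S := by
    ext g; exact mem_map_mk hN
  have h1 := card_comap_mk N (S.map (QuotientGroup.mk' N))
  rwa [e] at h1

theorem quotMod (hQn : Q.Normal) (hR : Rad Q P) :
    haveI := hR.normal
    Mod (Q.map (QuotientGroup.mk' P)) (Q.map (QuotientGroup.mk' P)) := by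
  haveI := hR.normal
  have hsq : ∀ a ∈ Q.map (QuotientGroup.mk' P), a * a = 1 := by
    rintro _ ⟨q, hq, rfl⟩
    rw [← map_mul]
    exact RankFourA5.mk_eq_one.2 (hR.sq q hq)
  refine ⟨hQn.map _ (QuotientGroup.mk'_surjective P), le_rfl, hsq,
    fun q hq a ha => comm_of_sq hsq hq ha, ?_⟩
  obtain ⟨g, q, hq, hne⟩ := hR.act
  refine ⟨QuotientGroup.mk' P g, QuotientGroup.mk' P q, mem_map_of_mem _ hq, fun e => hne ?_⟩
  rw [← RankFourA5.mk_eq_one, map_mul, map_mul, map_mul, map_inv, map_inv, e]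
  group

theorem card_cases (h : Setup Q) (hR : Rad Q P) :
    Nat.card Q = 8 * Nat.card P ∨ Nat.card Q = 16 * Nat.card P := by
  haveI := hR.normal
  rw [card_eq_mul_map P Q hR.le]
  rcases card_mod (h.quotient P hR.le) (quotMod h.normal hR) with e | e <;> rw [e]
  · exact Or.inl (mul_comm _ _)
  · exact Or.inr (mul_comm _ _)

/-- An element of order seven moves `Q / P` beyond a line. -/
theorem act_mod_line (h : Setup Q) (hR : Rad Q P) (J : Subgroup G) [J.Normal] (hPJ : P ≤ J) (hJQ : J ≤ Q)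
    (hcard : Nat.card J = 2 * Nat.card P) (h16 : Nat.card Q = 16 * Nat.card P) :
    ∃ g : G, ∃ a ∈ Q, g * a * g⁻¹ * a⁻¹ ∉ J := by
  by_contra hno
  push Not at hno
  haveI := hR.normal
  set mk := QuotientGroup.mk' P with hmk
  have hV := quotMod h.normal hR
  have hS := h.quotient P hR.le
  rw [← hmk] at hV hS
  have hV16 : Nat.card (Q.map mk) = 16 := by
    have := card_eq_mul_map P Q hR.le
    rw [h16, mul_comm 16, ← hmk] at this
    exact (Nat.eq_of_mul_eq_mul_left Nat.card_pos this).symm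
  have hJ2 : Nat.card (J.map mk) = 2 := by
    have := card_eq_mul_map P J hPJ
    rw [hcard, mul_comm 2, ← hmk] at this
    exact (Nat.eq_of_mul_eq_mul_left Nat.card_pos this).symm
  haveI : (J.map mk).Normal := (inferInstance : J.Normal).map mk (QuotientGroup.mk'_surjective P)
  obtain ⟨t, ht, ht7⟩ := hS.exists_seven
  have hC : Nat.card (Q.map mk ⊓ centralizer {t} : Subgroup (G ⧸ P)) = 2 := by
    rcases seven hS hV ht ht7 with ⟨e, -⟩ | ⟨-, e⟩
    · omega
    · exact e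
  have hle : Q.map mk ≤ Q.map mk ⊓ centralizer {t} := fun y hy => by
    refine ⟨hy, mem_centralizer_singleton_iff.2 (?_ : t * y = y * t).symm⟩
    set e := t * y * t⁻¹ * y⁻¹ with he
    have heJ : e ∈ J.map mk := by
      obtain ⟨g, rfl⟩ := QuotientGroup.mk'_surjective P t
      obtain ⟨a, ha, rfl⟩ := mem_map.1 hy
      rw [he, ← map_inv, ← map_inv, ← map_mul, ← map_mul, ← map_mul]
      exact mem_map_of_mem mk (hno g a ha)
    obtain ⟨he2, hec⟩ := two_central hJ2 heJ
    have hn : ∀ n : ℕ, t ^ n * y * (t ^ n)⁻¹ = e ^ n * y := by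
      intro n
      induction n with
      | zero => simp
      | succ n ih =>
        rw [pow_succ', show t * t ^ n * y * (t * t ^ n)⁻¹ = t * (t ^ n * y * (t ^ n)⁻¹) * t⁻¹ by group,
          ih, show t * (e ^ n * y) * t⁻¹ = t * e ^ n * (t⁻¹ * (t * y * t⁻¹ * y⁻¹) * y) by group, ← he,
          ((show Commute t e from hec t).pow_right n).eq, pow_succ]
        group
    have h7 := hn 7
    rw [hV.cQ _ ht7 y hy, mul_inv_cancel_right, show e ^ 7 = e * e * (e * e) * (e * e) * e by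
      simp [pow_succ, mul_assoc], he2] at h7
    simp only [one_mul] at h7
    have he1 : e = 1 := mul_eq_right.1 h7.symm
    exact mul_inv_eq_iff_eq_mul.1 (mul_inv_eq_one.1 he1)
  have := card_le_of_le hle
  omega

/-- Commutators in central involutions make the radical abelian. -/
theorem abel (h : Setup Q) (hR : Rad Q P) (hPc : ∀ x ∈ P, ∀ q ∈ Q, q * x = x * q)
    (hC : ∀ a ∈ Q, ∀ b ∈ Q, a * b * a⁻¹ * b⁻¹ * (a * b * a⁻¹ * b⁻¹) = 1 ∧
      ∀ g : G, g * (a * b * a⁻¹ * b⁻¹) = a * b * a⁻¹ * b⁻¹ * g) :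
    ∀ a ∈ Q, ∀ b ∈ Q, a * b = b * a := by
  haveI := hR.normal
  haveI := h.normal
  set mk := QuotientGroup.mk' P with hmk
  have hcommP : ∀ q ∈ Q, ∀ a ∈ Q, q * a * q⁻¹ * a⁻¹ ∈ P := fun q hq a ha => hR.comm hq ha
  rcases card_cases h hR with h8 | h16
  · obtain ⟨θ, v, hθ, hv⟩ := coords_quot h Q P hR.le le_rfl hR.sq hcommP h8 hR.act
    exact comm_const hθ hv hPc hC
  have hV := quotMod h.normal hR
  rw [← hmk] at hV
  have hV16 : Nat.card (Q.map mk) = 16 := by
    have := card_eq_mul_map P Q hR.le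
    rw [h16, mul_comm 16, ← hmk] at this
    exact (Nat.eq_of_mul_eq_mul_left Nat.card_pos this).symm
  have hinv : ∀ a ∈ Q, ∀ K : Subgroup G, K.Normal → K ≤ Q →
      (∀ g : G, ∀ x ∈ K, a⁻¹ * (g * a * g⁻¹) * x = x * (a⁻¹ * (g * a * g⁻¹))) →
      ∀ g : G, ∀ x ∈ K, a * (g * x * g⁻¹) * a⁻¹ * (g * x * g⁻¹)⁻¹ = a * x * a⁻¹ * x⁻¹ := by
    intro a ha K hKn hKQ hcom g x hx
    have hga := h.normal.conj_mem a ha g
    have hgx := hKn.conj_mem x hx g
    have hk := mul_mem (inv_mem ha) hga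
    have e := comm_mul_left (a := a) (hC (a⁻¹ * (g * a * g⁻¹)) hk (g * x * g⁻¹) (hKQ hgx)).2
    rw [mul_inv_cancel_left, hcom g _ hgx, mul_inv_cancel_right, mul_inv_cancel, one_mul] at e
    rw [← e, show g * a * g⁻¹ * (g * x * g⁻¹) * (g * a * g⁻¹)⁻¹ * (g * x * g⁻¹)⁻¹ =
      g * (a * x * a⁻¹ * x⁻¹) * g⁻¹ by group, (hC a ha x (hKQ hx)).2 g, mul_inv_cancel_right]
  rcases sixteen (h.quotient P hR.le) hV hV16 with ⟨c, hc, hc1, hfix⟩ | ⟨U, hUn, hUle, hU8⟩
  · obtain ⟨a, ha, rfl⟩ := mem_map.1 hc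
    have hc2 : Nat.card (zpowers (mk a)) = 2 := by
      rw [Nat.card_zpowers]
      exact orderOf_eq_prime (by rw [pow_two]; exact hV.sq _ hc) hc1
    haveI : (zpowers (mk a)).Normal := ⟨fun x hx g => by
      obtain ⟨i, rfl⟩ := mem_zpowers_iff.1 hx
      rw [(show Commute g (mk a) from hfix g).zpow_right i |>.eq, mul_inv_cancel_right]
      exact hx⟩
    set J := (zpowers (mk a)).comap mk with hJ
    have hPJ : P ≤ J := fun x hx => by rw [hJ, mem_comap, hmk, RankFourA5.mk_eq_one.2 hx]; exact one_mem _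
    have hcases : ∀ x ∈ J, x ∈ P ∨ a⁻¹ * x ∈ P := fun x hx => by
      obtain ⟨z, -, -, -, hzc⟩ := card_two_gen hc2
      have hza : mk a = z := (hzc _ (mem_zpowers _)).resolve_left hc1
      rcases hzc (mk x) (mem_comap.1 hx) with e | e
      · exact Or.inl (RankFourA5.mk_eq_one.1 e)
      · refine Or.inr ((RankFourA5.mk_eq_one (N := P)).1 ?_)
        rw [← hmk, map_mul, map_inv, hza, e, inv_mul_cancel]
    have hJQ : J ≤ Q := fun x hx => by
      rcases hcases x hx with e | e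
      · exact hR.le e
      · simpa using mul_mem ha (hR.le e)
    have hJcard : Nat.card J = 2 * Nat.card P := by rw [hJ, card_comap_mk, hc2, mul_comm]
    obtain ⟨θ, v, hθ, hv⟩ := coords_quot h Q J hJQ le_rfl (fun q hq => hPJ (hR.sq q hq))
      (fun q hq b hb => hPJ (hcommP q hq b hb)) (by rw [h16, hJcard]; ring)
      (act_mod_line h hR J hPJ hJQ hJcard h16)
    have haJ : ∀ x ∈ J, a * x = x * a := fun x hx => by
      rcases hcases x hx with e | e
      · exact hPc x e a ha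
      · rw [show x = a * (a⁻¹ * x) by group, mul_assoc a (a⁻¹ * x) a, ← hPc _ e a ha]
    have hφ := map_const hθ hv (fun x => a * x * a⁻¹ * x⁻¹) (fun k hk => (hC a ha k hk).1)
      (fun x hx y hy => comm_mul_right (hC a ha y hy).2)
      (fun j hj => by rw [haJ j hj]; group)
      (hinv a ha Q inferInstance le_rfl fun g x hx => by
        refine (hPc _ ((RankFourA5.mk_eq_one (N := P)).1 ?_) x hx).symm
        rw [← hmk, map_mul, map_mul, map_mul, map_inv, map_inv, hfix (mk g), mul_inv_cancel_right,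
          inv_mul_cancel])
    refine comm_const hθ hv (fun x hx k hk => ?_) hC
    rcases hcases x hx with e | e
    · exact hPc x e k hk
    · rw [show x = a * (a⁻¹ * x) by group]
      exact ((show Commute k a from (mul_inv_eq_iff_eq_mul.1 (mul_inv_eq_one.1 (hφ k hk))).symm).mul_right
        (hPc _ e k hk)).eq
  · set K := U.comap mk with hK
    haveI := hUn
    have hPK : P ≤ K := fun x hx => by rw [hK, mem_comap, hmk, RankFourA5.mk_eq_one.2 hx]; exact one_mem _
    have hKQ : K ≤ Q := fun x hx => (mem_map_mk hR.le).1 (hUle hx)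
    have hKcard : Nat.card K = 8 * Nat.card P := by rw [hK, card_comap_mk, hU8, mul_comm]
    have hact : ∃ g : G, ∃ k ∈ K, g * k * g⁻¹ * k⁻¹ ∉ P := by
      obtain ⟨x, y, hy, hne⟩ := act_of_card (h.quotient P hR.le) hV hUle (by omega)
      obtain ⟨g, rfl⟩ := QuotientGroup.mk'_surjective P x
      obtain ⟨k, -, rfl⟩ := mem_map.1 (hUle hy)
      refine ⟨g, k, hy, fun e => hne ?_⟩
      have h1 := RankFourA5.mk_eq_one.2 e
      rw [map_mul, map_mul, map_mul, map_inv, map_inv] at h1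
      exact mul_inv_eq_iff_eq_mul.1 (mul_inv_eq_one.1 h1)
    obtain ⟨θ, v, hθ, hv⟩ := coords_quot h K P hPK hKQ (fun k hk => hR.sq k (hKQ hk))
      (fun q hq b hb => hcommP q hq b (hKQ hb)) hKcard hact
    have hKab := comm_const hθ hv (fun x hx k hk => hPc x hx k (hKQ hk))
      (fun x hx y hy => hC x (hKQ hx) y (hKQ hy))
    have hidx := fun {x y : G} (hx : x ∈ Q) (hy : y ∈ Q) =>
      index_two_mul hKQ (a := x) (b := y) (by rw [h16, hKcard]; ring) hx hy
    obtain ⟨a, ha, haK⟩ : ∃ a ∈ Q, a ∉ K := by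
      by_contra hno
      push Not at hno
      have := card_le_of_le (hno : Q ≤ K)
      have := (Nat.card_pos : 0 < Nat.card P)
      omega
    have hga : ∀ g : G, a⁻¹ * (g * a * g⁻¹) ∈ K := fun g =>
      (hidx (inv_mem ha) (h.normal.conj_mem a ha g)).2 (iff_of_false (fun m => haK (inv_mem_iff.1 m))
        fun m => haK (by simpa [mul_assoc] using (inferInstance : K.Normal).conj_mem _ m g⁻¹))
    have hφ := map_const hθ hv (fun x => a * x * a⁻¹ * x⁻¹) (fun k hk => (hC a ha k (hKQ hk)).1)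
      (fun x hx y hy => comm_mul_right (hC a ha y (hKQ hy)).2)
      (fun j hj => by rw [hPc j hj a ha]; group)
      (hinv a ha K inferInstance hKQ fun g x hx => hKab _ (hga g) x hx)
    have hac : ∀ k ∈ K, Commute a k := fun k hk =>
      mul_inv_eq_iff_eq_mul.1 (mul_inv_eq_one.1 (hφ k hk))
    have hcases : ∀ q ∈ Q, q ∈ K ∨ a⁻¹ * q ∈ K := fun q hq =>
      or_iff_not_imp_left.2 fun m => (hidx (inv_mem ha) hq).2
        (iff_of_false (fun m' => haK (inv_mem_iff.1 m')) m)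
    intro x hx y hy
    have hone : ∀ q ∈ Q, Commute a q ∧ ∀ k ∈ K, Commute k q := fun q hq => by
      rcases hcases q hq with e | e
      · exact ⟨hac q e, fun k hk => hKab k hk q e⟩
      · rw [show q = a * (a⁻¹ * q) by group]
        exact ⟨(Commute.refl a).mul_right (hac _ e),
          fun k hk => (hac k hk).symm.mul_right (hKab k hk _ e)⟩
    rcases hcases x hx with e | e
    · exact ((hone y hy).2 x e).eq
    · rw [show x = a * (a⁻¹ * x) by group]
      exact ((hone y hy).1.mul_left ((hone y hy).2 _ e)).eq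

/-- The kernel of squaring. -/
def sqKer (Q : Subgroup G) (hab : ∀ a ∈ Q, ∀ b ∈ Q, a * b = b * a) : Subgroup G where
  carrier := {q | q ∈ Q ∧ q * q = 1}
  one_mem' := ⟨one_mem Q, one_mul 1⟩
  mul_mem' := fun {a b} ha hb => ⟨mul_mem ha.1 hb.1, by rw [sq_mul hab ha.1 hb.1, ha.2, hb.2, one_mul]⟩
  inv_mem' := fun {a} ha => ⟨inv_mem ha.1, by rw [← _root_.mul_inv_rev, ha.2, inv_one]⟩

theorem sqKer_normal (hQ : Q.Normal) (hab : ∀ a ∈ Q, ∀ b ∈ Q, a * b = b * a) :
    (sqKer Q hab).Normal :=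
  ⟨fun a ha g => ⟨hQ.conj_mem a ha.1 g, by rw [sq_conj, ha.2]; simp⟩⟩

/-- The radical with squares of order two. -/
theorem two (h : Setup Q) (hR : Rad Q P) (hP2 : Nat.card P = 2) :
    ∃ hab : ∀ a ∈ Q, ∀ b ∈ Q, a * b = b * a,
      Nat.card Q = 32 ∧ Nat.card (sqKer Q hab) = 16 := by
  haveI := hR.normal
  have hab := abel h hR (fun x hx q _ => (two_central hP2 hx).2 q)
    fun a ha b hb => two_central hP2 (hR.comm ha hb)
  obtain ⟨z, hzP, hz1, hz2, hzc⟩ := card_two_gen hP2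
  haveI := sqKer_normal h.normal hab
  obtain ⟨c, hc, hc2⟩ : ∃ c ∈ Q, c * c ≠ 1 := by
    by_contra hno
    push Not at hno
    exact hz1 (mem_bot.1 (hR.min ⊥ (fun q hq => mem_bot.2 (hno q hq)) hzP))
  have hsqz : ∀ q ∈ Q, q ∉ sqKer Q hab → q * q = z := fun q hq hn =>
    (hzc _ (hR.sq q hq)).resolve_left fun e => hn ⟨hq, e⟩
  have hhalf : Nat.card Q = 2 * Nat.card (sqKer Q hab) := by
    have hcK : c ∉ sqKer Q hab := fun m => hc2 m.2
    have hb : Function.Bijective (fun p : Bool × sqKer Q hab =>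
        (⟨cond p.1 c 1 * p.2, mul_mem (by cases p.1; exacts [one_mem Q, hc]) p.2.2.1⟩ : Q)) := by
      refine ⟨?_, fun q => ?_⟩
      · rintro ⟨i, x⟩ ⟨j, y⟩ e
        have e' : cond i c 1 * (x : G) = cond j c 1 * y := congrArg Subtype.val e
        obtain rfl : i = j := by
          cases i <;> cases j <;> simp only [cond_false, cond_true, one_mul] at e'
          · rfl
          · exact absurd ((mul_mem_cancel_right y.2).1 (e' ▸ x.2)) hcK
          · exact absurd ((mul_mem_cancel_right x.2).1 (e'.symm ▸ y.2)) hcK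
          · rfl
        rw [Subtype.ext (mul_left_cancel e')]
      · by_cases hq : (q : G) ∈ sqKer Q hab
        · exact ⟨(false, ⟨q, hq⟩), Subtype.ext (one_mul _)⟩
        · refine ⟨(true, ⟨c⁻¹ * q, mul_mem (inv_mem hc) q.2, ?_⟩), Subtype.ext (mul_inv_cancel_left c _)⟩
          rw [sq_mul hab (inv_mem hc) q.2, ← _root_.mul_inv_rev, hsqz c hc hcK, hsqz q q.2 hq,
            inv_mul_cancel]
    rw [← Nat.card_congr (Equiv.ofBijective _ hb), Nat.card_prod, Nat.card_eq_fintype_card (α := Bool),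
      Fintype.card_bool]
  refine ⟨hab, ?_⟩
  haveI := h.normal
  rcases card_cases h hR with e | e
  · exfalso
    obtain ⟨θ, v, hθ, hv⟩ := coords_quot h Q P hR.le le_rfl hR.sq (fun q hq a ha => hR.comm hq ha) e hR.act
    rcases hv.irreducible hθ (sqKer Q hab) (fun x hx => ⟨hR.le hx, (two_central hP2 hx).1⟩)
      (fun x hx => hx.1) with e' | e'
    · have := congrArg (fun S : Subgroup G => Nat.card S) e'
      simp only [hP2] at this
      omega
    · exact hc2 (e'.symm ▸ hc : c ∈ sqKer Q hab).2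
  · omega

/-- The shape of the radical of order `32`. -/
theorem iso_of_two {A : Type*} [Group A] [Finite A] (hab : ∀ a b : A, a * b = b * a)
    (h32 : Nat.card A = 32) (K : Subgroup A) (h16 : Nat.card K = 16) (hK : ∀ k ∈ K, k * k = 1)
    (c : A) (hc : c * c ∈ K) (hc2 : c * c ≠ 1) :
    Nonempty (A ≃* Multiplicative (ZMod 4) × (Fin 3 → Multiplicative (ZMod 2))) := by
  have hK2 : ∀ k : K, k ^ 2 = 1 := fun k => Subtype.ext (by rw [pow_two]; exact hK k k.2)
  obtain ⟨n, L, M, hcard, hL, -, -⟩ := InvolChar.A8Section.exists_linear_model hK2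
  obtain rfl : n = 4 := by
    rw [h16] at hcard
    exact Nat.pow_right_injective le_rfl (show 2 ^ n = 2 ^ 4 by rw [← hcard])
  have hL0 : L 1 = 0 := by
    have := hL 1 1
    rw [one_mul] at this
    exact add_eq_left.1 this.symm
  set z : K := ⟨c * c, hc⟩ with hz
  obtain ⟨i, hi⟩ : ∃ i, L z i ≠ 0 := by
    by_contra hno
    push Not at hno
    exact hc2 (congrArg Subtype.val (L.injective (show L z = L 1 by rw [hL0]; exact funext hno)))
  have hins : ∀ a b : Fin 3 → ZMod 2, (Fin.insertNth i 0 (a + b) : Fin 4 → ZMod 2) =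
      Fin.insertNth i 0 a + Fin.insertNth i 0 b := fun a b => by
    funext j
    rcases Fin.eq_self_or_eq_succAbove i j with rfl | ⟨k, rfl⟩
    · simp
    · simp
  let ψ : (Fin 3 → Multiplicative (ZMod 2)) →* K :=
    MonoidHom.mk' (fun v => L.symm (Fin.insertNth i 0 fun k => Multiplicative.toAdd (v k))) fun a b => by
      refine L.injective ?_
      rw [hL, L.apply_symm_apply, L.apply_symm_apply, L.apply_symm_apply, ← hins]
      rfl
  have hψi : ∀ v, L (ψ v) i = 0 := fun v => by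
    show L (L.symm _) i = 0
    rw [L.apply_symm_apply, Fin.insertNth_apply_same]
  have hψinj : Function.Injective ψ := fun a b e => by
    have := congrArg L e
    simp only [ψ, MonoidHom.mk'_apply, L.apply_symm_apply] at this
    refine funext fun k => Multiplicative.toAdd.injective ?_
    have h1 := congrFun this (i.succAbove k)
    rwa [Fin.insertNth_apply_succAbove, Fin.insertNth_apply_succAbove] at h1
  have hc4 : c ^ 4 = 1 := by
    rw [show c ^ 4 = c * c * (c * c) by simp [pow_succ, mul_assoc]]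
    exact hK _ hc
  let φ : Multiplicative (ZMod 4) →* A :=
    MonoidHom.mk' (fun x => c ^ (Multiplicative.toAdd x).val) fun a b => by
      show c ^ (Multiplicative.toAdd a + Multiplicative.toAdd b).val = _
      rw [← pow_add, ZMod.val_add]
      exact (pow_eq_pow_mod _ hc4).symm
  let Φ : Multiplicative (ZMod 4) × (Fin 3 → Multiplicative (ZMod 2)) →* A :=
    MonoidHom.mk' (fun p => φ p.1 * (ψ p.2 : A)) fun p q => by
      show φ (p.1 * q.1) * ((ψ (p.2 * q.2) : K) : A) = φ p.1 * (ψ p.2 : A) * (φ q.1 * (ψ q.2 : A))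
      rw [map_mul, map_mul, Subgroup.coe_mul,
        (show Commute (φ q.1) (ψ p.2 : A) from hab _ _).mul_mul_mul_comm]
  have hinj : Function.Injective Φ := by
    rw [injective_iff_map_eq_one]
    rintro ⟨x, v⟩ e
    have e' : c ^ (Multiplicative.toAdd x).val * (ψ v : A) = 1 := e
    obtain ⟨j, hjx⟩ : ∃ j : ZMod 4, Multiplicative.toAdd x = j := ⟨_, rfl⟩
    rw [hjx] at e'
    have hψ2 := hK _ (ψ v).2
    have he : c ^ j.val = ψ v := by
      rw [eq_inv_of_mul_eq_one_left e', inv_eq_of_mul_eq_one_right hψ2]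
    have hsq : (c * c) ^ j.val = 1 := by
      rw [(Commute.refl c).mul_pow, he, hψ2]
    have hzz : (c * c) * (c * c) = 1 := hK _ hc
    have hj : j = 0 := by
      fin_cases j
      · rfl
      · have h1 : (c * c) ^ 1 = 1 := hsq
        exact absurd (by simpa using h1) hc2
      · exfalso
        have hzψ : z = ψ v := Subtype.ext (by
          rw [← he]; show c * c = c ^ 2; rw [pow_two])
        exact hi (by rw [hzψ, hψi])
      · exfalso
        have h3 : (c * c) ^ 3 = 1 := hsq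
        rw [pow_succ, pow_two, hzz, one_mul] at h3
        exact hc2 h3
    rw [hj, ZMod.val_zero, pow_zero] at he
    obtain rfl : x = 1 := Multiplicative.toAdd.injective (hjx.trans hj)
    rw [hψinj (show ψ v = ψ 1 by rw [map_one]; exact Subtype.ext he.symm)]
    rfl
  have hcardP : Nat.card (Multiplicative (ZMod 4) × (Fin 3 → Multiplicative (ZMod 2))) = 32 := by
    rw [Nat.card_prod, Nat.card_fun, Nat.card_congr (Multiplicative.toAdd (α := ZMod 4)),
      Nat.card_congr (Multiplicative.toAdd (α := ZMod 2)), Nat.card_zmod, Nat.card_zmod, Nat.card_fin]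
    norm_num
  exact ⟨(MulEquiv.ofBijective Φ
    ((Nat.bijective_iff_injective_and_card _).2 ⟨hinj, by rw [hcardP, h32]⟩)).symm⟩

end CfsgLib.RankFourL32
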