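import Cfsg.Agent.Lib.InvolChar.SubgroupsA8

/-!
Decidable facts on `GL₃(2)` acting on its natural module.
-/

set_option autoImplicit false
set_option linter.style.haveILetI false
set_option synthInstance.maxSize 4096
set_option synthInstance.maxHeartbeats 400000

namespace CfsgLib.RankFourL32

open Matrix

/-- `3 × 3` matrices over `𝔽₂`. -/
abbrev M3 := Matrix (Fin 3) (Fin 3) (ZMod 2)

/-- `𝔽₂³`. -/
abbrev V3 := Fin 3 → ZMod 2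

/-- The centre of the transvections. -/
def d : V3 := ![1, 0, 0]

/-- The regular unipotent matrix. -/
def mF : M3 := !![1, 1, 0; 0, 1, 1; 0, 0, 1]

/-- An element of order three fixing `d`. -/
def mR : M3 := !![1, 0, 0; 0, 0, 1; 0, 1, 1]

/-- The transvections with centre `d`. -/
def mT1 : M3 := mF * mF
/-- The second transvection with centre `d`. -/
def mT2 : M3 := mR * mT1 * (mR * mR)
/-- The third transvection with centre `d`. -/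
def mT3 : M3 := mR * mT2 * (mR * mR)

/-- The two involutions generating a Sylow `2`-subgroup. -/
def mS : M3 := !![1, 1, 0; 0, 1, 0; 0, 0, 1]
/-- The second involution. -/
def mE : M3 := !![1, 0, 0; 0, 1, 1; 0, 0, 1]

/-- An element of order seven. -/
def mS7 : M3 := !![0, 0, 1; 1, 0, 1; 0, 1, 0]

/-- A cycle on the line through `e₀` and `e₁`. -/
def mC : M3 := !![0, 1, 0; 1, 1, 0; 0, 0, 1]
/-- An elation fixing the line through `e₀` and `e₁`. -/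
def mX : M3 := !![1, 0, 1; 0, 1, 0; 0, 0, 1]

theorem card_gl : Nat.card (GL (Fin 3) (ZMod 2)) = 168 := by
  haveI : Fact (Nat.Prime 2) := ⟨Nat.prime_two⟩
  rw [Matrix.card_GL_field, ZMod.card]
  decide

theorem det_facts : mF.det = 1 ∧ mR.det = 1 ∧ mS.det = 1 ∧ mE.det = 1 ∧ mS7.det = 1 ∧
    mC.det = 1 ∧ mX.det = 1 := by decide +kernel

theorem pow_facts : mF * mF * (mF * mF) = 1 ∧ mR * mR * mR = 1 ∧ mT1 ≠ 1 ∧ mT2 ≠ 1 ∧ mT3 ≠ 1 ∧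
    mT1 * mT2 = mT3 ∧ mR * mT3 * (mR * mR) = mT1 ∧ mT1 * mT1 = 1 ∧ mR *ᵥ d = d ∧ mT1 ≠ mT2 := by
  decide +kernel

theorem seven_facts : mS7 ^ 7 = 1 ∧ mS7 ≠ 1 ∧ ∀ v : V3, mS7 *ᵥ v = v → v = 0 := by decide +kernel

theorem syl_facts : mS * mS = 1 ∧ mE * mE = 1 ∧ mS ≠ 1 ∧ mE ≠ 1 ∧ (mS * mE) * (mS * mE) ≠ 1 ∧
    (mS * mE) * (mS * mE) * ((mS * mE) * (mS * mE)) = 1 := by decide +kernel

theorem syl_injective : ∀ i : ZMod 4, ((mS * mE) ^ i.val = 1 → i = 0) ∧ mS * (mS * mE) ^ i.val ≠ 1 := by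
  decide +kernel

theorem vec_facts : (∀ v : V3, mF *ᵥ v = v → v = 0 ∨ v = d) ∧
    (∀ v : V3, (mT1 *ᵥ v + v = 0 ∨ mT1 *ᵥ v + v = d) ∧ (mT2 *ᵥ v + v = 0 ∨ mT2 *ᵥ v + v = d) ∧
      (mT3 *ᵥ v + v = 0 ∨ mT3 *ᵥ v + v = d)) ∧
    (mT1 *ᵥ d = d ∧ mT2 *ᵥ d = d ∧ mT3 *ᵥ d = d) ∧
    (∃ k : V3, mT1 *ᵥ k + k = d) ∧ (∃ k : V3, mT2 *ᵥ k + k = d) ∧ (∃ k : V3, mT3 *ᵥ k + k = d) := by
  decide +kernel

/-- Two transvections with centre `d` move some common vector to `d`. -/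
theorem common_axis : ∀ T ∈ [mT1, mT2, mT3], ∀ T' ∈ [mT1, mT2, mT3],
    ∃ k : V3, T *ᵥ k + k = d ∧ T' *ᵥ k + k = d := by
  decide +kernel

theorem transitive : ∀ v w : V3, v ≠ 0 → w ≠ 0 → ∃ M : M3, M.det = 1 ∧ M *ᵥ v = w := by
  decide +kernel

theorem transitive_pairs : ∀ v w : V3, v ≠ 0 → w ≠ 0 → v ≠ w →
    ∃ M : M3, M.det = 1 ∧ M *ᵥ ![1, 0, 0] = v ∧ M *ᵥ ![0, 1, 0] = w := by
  decide +kernel

theorem fixed_zero : ∀ v : V3, mS7 *ᵥ v = v → v = 0 := seven_facts.2.2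

theorem fixed_stab : ∀ x y : V3, (∀ M : M3, M.det = 1 → M *ᵥ x = x → M *ᵥ y = y) → y = 0 ∨ y = x := by
  decide +kernel

theorem fixed_stab_pair : ∀ y : V3,
    (∀ M : M3, M.det = 1 → M *ᵥ d = d → M *ᵥ y = y ∨ M *ᵥ y = y + d) → y = 0 ∨ y = d := by
  decide +kernel

theorem conj_centre : ∀ M : M3, M.det = 1 → M *ᵥ d = d →
    M * mT1 = mT1 * M ∨ M * mT1 = mT2 * M ∨ M * mT1 = mT3 * M := by
  decide +kernel

theorem conj_involution : ∀ M : M3, M * M = 1 → M ≠ 1 →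
    (∃ N : M3, N.det = 1 ∧ N * M = mS * N) ∧ (∃ N : M3, N.det = 1 ∧ N * M = mE * N) ∧
      ∃ N : M3, N.det = 1 ∧ N * M = (mS * mE) * (mS * mE) * N := by
  decide +kernel

theorem line_point : ∀ z : V3, mC *ᵥ z = z → mX *ᵥ z = z → z = 0 := by decide +kernel

theorem line_action : mC *ᵥ ![1, 0, 0] = ![0, 1, 0] ∧ mC *ᵥ ![0, 1, 0] = ![1, 0, 0] + ![0, 1, 0] ∧
    mX *ᵥ ![1, 0, 0] = ![1, 0, 0] ∧ mX *ᵥ ![0, 1, 0] = ![0, 1, 0] := by decide +kernel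

theorem add_self (v : V3) : v + v = 0 := funext fun i => CharTwo.add_self_eq_zero (v i)

/-- The first stage: the commutator of two lifts lies below. -/
theorem stage_one : ∀ g y : V3, mT1 *ᵥ g = g → mT2 *ᵥ g = g → g = y + mT3 *ᵥ y →
    mR *ᵥ g = mT2 *ᵥ y + g + y → mR *ᵥ y = mT2 *ᵥ y + g → g = 0 ∧ (y = 0 ∨ y = d) := by
  decide +kernel

/-- The second stage: the squares of the lifts lie on the centre. -/
theorem stage_two : ∀ c g : V3, mT1 *ᵥ c = c → mT1 *ᵥ g + g = mT2 *ᵥ c + c →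
    mT2 *ᵥ g + g = mT1 *ᵥ (mR *ᵥ c) + mR *ᵥ c →
    (g + mT2 *ᵥ c + mR *ᵥ c + mR *ᵥ (mR *ᵥ c) = 0 ∨
      g + mT2 *ᵥ c + mR *ᵥ c + mR *ᵥ (mR *ᵥ c) = d) → (c = 0 ∨ c = d) ∧ (g = 0 ∨ g = d) := by
  decide +kernel

theorem fixed_both : ∀ g : V3, mT1 *ᵥ g = g → mT2 *ᵥ g = g → g = 0 ∨ g = d := by decide +kernel

theorem list_facts : (∀ T ∈ [mT1, mT2, mT3], T *ᵥ d = d ∧ T * T = 1) ∧
    ∀ T ∈ [mT1, mT2, mT3], ∀ T' ∈ [mT1, mT2, mT3], T * T' * (T * T') = 1 := by decide +kernel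

theorem third_point : ∀ x y : V3, ∃ w : V3, w ≠ 0 ∧ w ≠ x ∧ w ≠ y ∧ w ≠ x + y := by decide +kernel

theorem d_ne_y : d ≠ ![0, 1, 0] := by decide

end CfsgLib.RankFourL32
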