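import Cfsg.Agent.Lib.RankFourA5.Main
import Cfsg.Agent.Lib.InvolChar.A8Section
import Cfsg.Agent.Lib.RankFourL32.Facts

/-!
Extensions of `2`-groups by `GL₃(2)` of sectional rank at most four: natural coordinates.
-/

set_option autoImplicit false
set_option linter.unusedSectionVars false
set_option linter.style.haveILetI false

open scoped Classical

namespace CfsgLib.RankFourL32

open Subgroup Matrix RankFourA5

variable {G : Type*} [Group G] {Q A N W : Subgroup G} {θ : G →* GL (Fin 3) (ZMod 2)}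

/-- A projection onto `GL₃(2)` with kernel `Q`. -/
structure Frame (θ : G →* GL (Fin 3) (ZMod 2)) (Q : Subgroup G) : Prop where
  surj : Function.Surjective θ
  ker : θ.ker = Q

/-- A `2`-group `Q` extended by `GL₃(2)`. -/
structure Setup (Q : Subgroup G) : Prop where
  quot : ∃ θ : G →* GL (Fin 3) (ZMod 2), Frame θ Q
  pgroup : IsPGroup 2 Q
  rank : NoSection G

theorem Frame.lift (hθ : Frame θ Q) {M : M3} (hM : M.det = 1) : ∃ g, (θ g : M3) = M := by
  haveI : Fact (Nat.Prime 2) := ⟨Nat.prime_two⟩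
  obtain ⟨g, hg⟩ := hθ.surj (GeneralLinearGroup.mkOfDetNeZero M (by rw [hM]; exact one_ne_zero))
  exact ⟨g, by rw [hg]; rfl⟩

theorem Frame.mem_iff (hθ : Frame θ Q) {g : G} : g ∈ Q ↔ (θ g : M3) = 1 := by
  rw [← hθ.ker, MonoidHom.mem_ker, ← Units.val_eq_one]

theorem Frame.mul_inv (g : G) : (θ g⁻¹ : M3) * (θ g : M3) = 1 := by
  rw [← Units.val_mul, ← map_mul, inv_mul_cancel, map_one, Units.val_one]

theorem Frame.conj_eq {g x : G} {M M' : M3} (hM : (θ x : M3) = M) (h : (θ g : M3) * M = M' * (θ g : M3)) :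
    (θ (g * x * g⁻¹) : M3) = M' := by
  rw [map_mul, map_mul, Units.val_mul, Units.val_mul, hM, h, mul_assoc, ← Units.val_mul, ← map_mul,
    mul_inv_cancel, map_one, Units.val_one, mul_one]

theorem Setup.normal (h : Setup Q) : Q.Normal := by
  obtain ⟨θ, hθ⟩ := h.quot
  rw [← hθ.ker]; infer_instance

theorem Setup.normal_cases (h : Setup Q) (K : Subgroup G) [hK : K.Normal] (hQK : Q ≤ K) :
    K = Q ∨ K = ⊤ := by
  obtain ⟨θ, hθ⟩ := h.quot
  haveI := CfsgLib.InvolChar.SubgroupsA8.gl3_simple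
  rcases IsSimpleGroup.eq_bot_or_eq_top_of_normal (K.map θ) (hK.map θ hθ.surj) with h1 | h1
  · exact Or.inl (le_antisymm (hθ.ker ▸ (Subgroup.map_eq_bot_iff K).1 h1) hQK)
  · refine Or.inr (eq_top_iff.2 fun g _ => ?_)
    obtain ⟨k, hk, hkg⟩ := mem_map.1 (h1 ▸ mem_top (θ g) : θ g ∈ K.map θ)
    have h2 : k⁻¹ * g ∈ θ.ker := by rw [MonoidHom.mem_ker, map_mul, map_inv, hkg, inv_mul_cancel]
    have h3 := mul_mem hk (hQK (hθ.ker ▸ h2))
    rwa [mul_inv_cancel_left] at h3

theorem Frame.quotient (hθ : Frame θ Q) (N : Subgroup G) [N.Normal] (hN : N ≤ Q) :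
    ∃ θ' : G ⧸ N →* GL (Fin 3) (ZMod 2), Frame θ' (Q.map (QuotientGroup.mk' N)) ∧
      ∀ g : G, θ' (g : G ⧸ N) = θ g := by
  refine ⟨QuotientGroup.lift N θ (fun x hx => MonoidHom.mem_ker.1 (by rw [hθ.ker]; exact hN hx)),
    ⟨fun a => ?_, ?_⟩, fun g => rfl⟩
  · obtain ⟨g, rfl⟩ := hθ.surj a
    exact ⟨g, rfl⟩
  · ext q
    induction q using QuotientGroup.induction_on with
    | _ g =>
      refine ⟨fun hg => mem_map.2 ⟨g, hθ.ker ▸ (hg : θ g = 1), rfl⟩, fun hg => ?_⟩
      show θ g = 1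
      exact MonoidHom.mem_ker.1 (by rw [hθ.ker]; exact (mem_map_mk hN).1 hg)

theorem Setup.quotient [Finite G] (h : Setup Q) (N : Subgroup G) [N.Normal] (hN : N ≤ Q) :
    Setup (Q.map (QuotientGroup.mk' N)) := by
  obtain ⟨θ, hθ⟩ := h.quot
  obtain ⟨θ', hθ', -⟩ := hθ.quotient N hN
  exact ⟨⟨θ', hθ'⟩, h.pgroup.map _, h.rank.quotient N⟩

theorem Setup.exists_seven (h : Setup Q) : ∃ t : G, t ∉ Q ∧ t ^ 7 ∈ Q := by
  obtain ⟨θ, hθ⟩ := h.quot
  obtain ⟨t, ht⟩ := hθ.lift det_facts.2.2.2.2.1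
  refine ⟨t, fun hq => seven_facts.2.1 (ht ▸ hθ.mem_iff.1 hq), hθ.mem_iff.2 ?_⟩
  rw [map_pow, Units.val_pow_eq_pow_val, ht]
  exact seven_facts.1

theorem index_eq [Finite G] (h : Setup Q) : Q.index = 168 := by
  obtain ⟨θ, hθ⟩ := h.quot
  rw [← hθ.ker, index_ker, MonoidHom.range_eq_top.2 hθ.surj, card_top, card_gl]

/-- Natural coordinates on the factor `A / N`. -/
structure Coords (θ : G →* GL (Fin 3) (ZMod 2)) (A N : Subgroup G) (ℓ : G → V3) : Prop where
  normal : A.Normal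
  le : N ≤ A
  add : ∀ a ∈ A, ∀ b ∈ A, ℓ (a * b) = ℓ a + ℓ b
  conj : ∀ g : G, ∀ a ∈ A, ℓ (g * a * g⁻¹) = (θ g : M3) *ᵥ ℓ a
  surj : ∀ v, ∃ a ∈ A, ℓ a = v
  ker : ∀ a ∈ A, ℓ a = 0 ↔ a ∈ N

namespace Coords

variable {ℓ : G → V3}

theorem map_one (hc : Coords θ A N ℓ) : ℓ 1 = 0 := (hc.ker 1 (one_mem A)).2 (one_mem N)

theorem map_inv (hc : Coords θ A N ℓ) {a : G} (ha : a ∈ A) : ℓ a⁻¹ = ℓ a := by
  have h1 := hc.add a ha a⁻¹ (inv_mem ha)
  rw [mul_inv_cancel, hc.map_one] at h1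
  rw [← add_zero (ℓ a⁻¹), ← RankFourL32.add_self (ℓ a), ← add_assoc, add_comm (ℓ a⁻¹), ← h1, zero_add]

theorem eq_iff (hc : Coords θ A N ℓ) {a b : G} (ha : a ∈ A) (hb : b ∈ A) :
    ℓ a = ℓ b ↔ a⁻¹ * b ∈ N := by
  rw [← hc.ker _ (mul_mem (inv_mem ha) hb), hc.add _ (inv_mem ha) _ hb, hc.map_inv ha]
  refine ⟨fun e => by rw [e, RankFourL32.add_self], fun e => ?_⟩
  rw [← add_zero (ℓ a), ← e, ← add_assoc, RankFourL32.add_self, zero_add]

theorem comm (hc : Coords θ A N ℓ) (g : G) {a : G} (ha : a ∈ A) :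
    g * a * g⁻¹ * a⁻¹ ∈ A ∧ ℓ (g * a * g⁻¹ * a⁻¹) = (θ g : M3) *ᵥ ℓ a + ℓ a := by
  haveI := hc.normal
  have h1 := hc.normal.conj_mem a ha g
  exact ⟨mul_mem h1 (inv_mem ha), by rw [hc.add _ h1 _ (inv_mem ha), hc.conj g a ha, hc.map_inv ha]⟩

theorem comm_base (hθ : Frame θ Q) (hc : Coords θ A N ℓ) {q a : G} (hq : q ∈ Q) (ha : a ∈ A) :
    q * a * q⁻¹ * a⁻¹ ∈ N := by
  obtain ⟨h1, h2⟩ := hc.comm q ha
  refine (hc.ker _ h1).1 ?_
  rw [h2, hθ.mem_iff.1 hq, one_mulVec, RankFourL32.add_self]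

theorem commute_base (hθ : Frame θ Q) (hc : Coords θ A ⊥ ℓ) {q a : G} (hq : q ∈ Q) (ha : a ∈ A) :
    q * a = a * q :=
  mul_inv_eq_iff_eq_mul.1 (mul_inv_eq_one.1 (mem_bot.1 (hc.comm_base hθ hq ha)))

theorem sq_mem (hc : Coords θ A N ℓ) {a : G} (ha : a ∈ A) : a * a ∈ N :=
  (hc.ker _ (mul_mem ha ha)).1 (by rw [hc.add a ha a ha, RankFourL32.add_self])

theorem sq_eq_one (hc : Coords θ A ⊥ ℓ) {a : G} (ha : a ∈ A) : a * a = 1 := mem_bot.1 (hc.sq_mem ha)

theorem fixed_mem (hθ : Frame θ Q) (hc : Coords θ A N ℓ) {a : G} (ha : a ∈ A)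
    (hfix : ∀ g : G, g * a * g⁻¹ * a⁻¹ ∈ N) : a ∈ N := by
  obtain ⟨t, ht⟩ := hθ.lift det_facts.2.2.2.2.1
  have h1 := (hc.ker _ (hc.comm t ha).1).2 (hfix t)
  rw [(hc.comm t ha).2, ht] at h1
  exact (hc.ker a ha).1 (fixed_zero _ (by
    rw [← add_zero (mS7 *ᵥ ℓ a), ← RankFourL32.add_self (ℓ a), ← add_assoc, h1, zero_add]))

theorem irreducible (hθ : Frame θ Q) (hc : Coords θ A N ℓ) (U : Subgroup G) [hU : U.Normal]
    (hNU : N ≤ U) (hUA : U ≤ A) : U = N ∨ U = A := by
  by_cases hex : ∀ u ∈ U, ℓ u = 0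
  · exact Or.inl (le_antisymm (fun u hu => (hc.ker u (hUA hu)).1 (hex u hu)) hNU)
  · push Not at hex
    obtain ⟨u, hu, hu0⟩ := hex
    refine Or.inr (le_antisymm hUA fun a ha => ?_)
    by_cases ha0 : ℓ a = 0
    · exact hNU ((hc.ker a ha).1 ha0)
    obtain ⟨M, hM, hMv⟩ := transitive _ _ hu0 ha0
    obtain ⟨g, hg⟩ := hθ.lift hM
    have h1 := hU.conj_mem u hu g
    have h2 := (hc.eq_iff (hUA h1) ha).1 (by rw [hc.conj g u (hUA hu), hg, hMv])
    have h3 := mul_mem h1 (hNU h2)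
    rwa [mul_inv_cancel_left] at h3

theorem card_eq (hc : Coords θ A N ℓ) : Nat.card A = 8 * Nat.card N := by
  let f : A →* Multiplicative V3 :=
    { toFun := fun a => Multiplicative.ofAdd (ℓ a)
      map_one' := by simp [hc.map_one]
      map_mul' := fun a b => by
        show Multiplicative.ofAdd (ℓ ((a : G) * b)) = _
        rw [hc.add a a.2 b b.2]
        rfl }
  have hsurj : Function.Surjective f := fun v => by
    obtain ⟨a, ha, hav⟩ := hc.surj (Multiplicative.toAdd v)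
    exact ⟨⟨a, ha⟩, by show Multiplicative.ofAdd (ℓ a) = v; rw [hav]; rfl⟩
  have hker : f.ker = N.subgroupOf A := by
    ext a
    rw [MonoidHom.mem_ker, mem_subgroupOf, ← hc.ker a a.2]
    exact Iff.rfl
  rw [card_eq_card_quotient_mul_card_subgroup f.ker,
    Nat.card_congr (QuotientGroup.quotientKerEquivOfSurjective f hsurj).toEquiv, hker,
    Nat.card_congr (subgroupOfEquivOfLe hc.le).toEquiv,
    Nat.card_congr (Multiplicative.toAdd (α := V3))]
  simp [Nat.card_eq_fintype_card]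

theorem sub (hc : Coords θ A N ℓ) (G0 : Subgroup G) (hA : A ≤ G0) :
    Coords (θ.comp G0.subtype) (A.subgroupOf G0) (N.subgroupOf G0) (fun x => ℓ x) := by
  haveI := hc.normal
  exact ⟨inferInstance, comap_mono hc.le, fun a ha b hb => hc.add a ha b hb,
    fun g a ha => hc.conj g a ha,
    fun v => (hc.surj v).elim fun a ha => ⟨⟨a, hA ha.1⟩, ha.1, ha.2⟩,
    fun a ha => hc.ker a ha⟩

theorem mapQ (hθ : Frame θ Q) (hc : Coords θ A ⊥ ℓ) (C : Subgroup G) [C.Normal] (hCQ : C ≤ Q)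
    (hd : ∀ a ∈ A, a ∈ C → a = 1) :
    ∃ (θ' : G ⧸ C →* GL (Fin 3) (ZMod 2)) (ℓ' : G ⧸ C → V3), Frame θ' (Q.map (QuotientGroup.mk' C)) ∧
      Coords θ' (A.map (QuotientGroup.mk' C)) ⊥ ℓ' := by
  haveI := hc.normal
  obtain ⟨θ', hθ', hθe⟩ := hθ.quotient C hCQ
  have huniq : ∀ a ∈ A, ∀ b ∈ A, (a : G ⧸ C) = (b : G ⧸ C) → a = b := fun a ha b hb e =>
    inv_mul_eq_one.1 (hd _ (mul_mem (inv_mem ha) hb) (QuotientGroup.eq.1 e))
  let ℓ' : G ⧸ C → V3 := fun x => if hx : ∃ a ∈ A, (a : G ⧸ C) = x then ℓ hx.choose else 0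
  have hℓ : ∀ a ∈ A, ℓ' (a : G ⧸ C) = ℓ a := fun a ha => by
    have hx : ∃ b ∈ A, (b : G ⧸ C) = (a : G ⧸ C) := ⟨a, ha, rfl⟩
    simp only [ℓ', dif_pos hx]
    rw [huniq _ hx.choose_spec.1 a ha hx.choose_spec.2]
  refine ⟨θ', ℓ', hθ', hc.normal.map _ (QuotientGroup.mk'_surjective C), bot_le, ?_, ?_, ?_, ?_⟩
  · rintro _ ⟨a, ha, rfl⟩ _ ⟨b, hb, rfl⟩
    show ℓ' ((a * b : G) : G ⧸ C) = ℓ' (a : G ⧸ C) + ℓ' (b : G ⧸ C)
    rw [hℓ _ (mul_mem ha hb), hℓ a ha, hℓ b hb, hc.add a ha b hb]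
  · intro x y hy
    obtain ⟨a, ha, rfl⟩ := mem_map.1 hy
    induction x using QuotientGroup.induction_on with
    | _ g =>
      show ℓ' ((g * a * g⁻¹ : G) : G ⧸ C) = _
      rw [hℓ _ (hc.normal.conj_mem a ha g), hθe, hc.conj g a ha]
      show _ = _ *ᵥ ℓ' (a : G ⧸ C)
      rw [hℓ a ha]
  · intro v
    obtain ⟨a, ha, hav⟩ := hc.surj v
    exact ⟨(a : G ⧸ C), mem_map_of_mem _ ha, by rw [hℓ a ha, hav]⟩
  · rintro _ ⟨a, ha, rfl⟩
    show ℓ' (a : G ⧸ C) = 0 ↔ _
    rw [hℓ a ha, hc.ker a ha, mem_bot, mem_bot]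
    exact ⟨fun e => by rw [e]; exact _root_.map_one _, fun e => hd a ha ((QuotientGroup.eq_one_iff a).1 e)⟩

end Coords

section ModLemmas

variable [Finite G]

theorem Setup.eq_top (h : Setup Q) (K : Subgroup G) [K.Normal] (hQK : Q ≤ K) {g : G} (hg : g ∈ K)
    (hgQ : g ∉ Q) : K = ⊤ :=
  (h.normal_cases K hQK).resolve_left fun e => hgQ (e ▸ hg)

theorem centralizer_eq (h : Setup Q) (hm : Mod Q A) {g : G} :
    (∀ a ∈ A, g * a = a * g) ↔ g ∈ Q := by
  haveI := hm.normal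
  refine ⟨fun hg => ?_, fun hg a ha => hm.cQ g hg a ha⟩
  rcases h.normal_cases (centralizer (A : Set G))
    (fun q hq => mem_centralizer_iff.2 fun a ha => (hm.cQ q hq a ha).symm) with e | e
  · exact e ▸ mem_centralizer_iff.2 fun a ha => (hg a ha).symm
  · obtain ⟨x, a, ha, hne⟩ := hm.act
    exact absurd (mem_centralizer_iff.1 (e ▸ mem_top x : x ∈ centralizer (A : Set G)) a ha).symm hne

/-- An element of order seven modulo `Q` on a module. -/
theorem seven (h : Setup Q) (hm : Mod Q A) {t : G} (ht : t ∉ Q) (ht7 : t ^ 7 ∈ Q) :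
    (Nat.card A = 8 ∧ ∀ a ∈ A, t * a = a * t → a = 1) ∨
      (Nat.card A = 16 ∧ Nat.card (A ⊓ centralizer {t} : Subgroup G) = 2) := by
  haveI := hm.normal
  haveI : Fact (Nat.Prime 7) := ⟨by norm_num⟩
  have heq : ∀ (g : G) (a : A), MulAut.conjNormal g a = a ↔ g * a = a * g := fun g a => by
    rw [Subtype.ext_iff, MulAut.conjNormal_apply, mul_inv_eq_iff_eq_mul]
  set η : MulAut A := MulAut.conjNormal t with hη
  have h7 : η ^ 7 = 1 := MulEquiv.ext fun a => by
    rw [hη, ← map_pow]; exact (heq _ a).2 (hm.cQ _ ht7 a a.2)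
  have h1 : η ≠ 1 := fun e => ht ((centralizer_eq h hm).1 fun a ha =>
    (heq t ⟨a, ha⟩).1 (by rw [← hη, e]; rfl))
  have hP : IsPGroup 7 (Subgroup.zpowers η) :=
    IsPGroup.of_card (n := 1) (by rw [Nat.card_zpowers, orderOf_eq_prime h7 h1, pow_one])
  have hmod := ThreePrimes.card_modEq_fixed hP (Subgroup.zpowers η).subtype ⊤ (fun _ _ _ => mem_top _)
  set C := (A ⊓ centralizer ({t} : Set G) : Subgroup G) with hC
  have hFe : Nat.card {a : A // a ∈ (⊤ : Subgroup A) ∧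
      ∀ g : Subgroup.zpowers η, (Subgroup.zpowers η).subtype g a = a} = Nat.card C := by
    refine Nat.card_congr
      { toFun := fun a => ⟨(a : A), (a : A).2, mem_centralizer_singleton_iff.2
          ((heq t a).1 (a.2.2 ⟨η, mem_zpowers η⟩)).symm⟩
        invFun := fun a => ⟨⟨a, a.2.1⟩, mem_top _, fun g => ?_⟩
        left_inv := fun _ => rfl
        right_inv := fun _ => rfl }
    obtain ⟨g, hg⟩ := g
    exact (zpowers_le.2 (show η ∈ MulAction.stabilizer (MulAut A) (⟨a, a.2.1⟩ : A) from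
      (heq t ⟨a, a.2.1⟩).2 (mem_centralizer_singleton_iff.1 a.2.2).symm) hg :)
  rw [hFe, card_top] at hmod
  obtain ⟨j, hj4, hj⟩ := card_elem h.rank hm.sq
  obtain ⟨i, hij, hi⟩ := (Nat.dvd_prime_pow Nat.prime_two).1 (hj ▸ card_dvd_of_le (inf_le_left : C ≤ A))
  have hlt : i < j := by
    by_contra hc
    have hCA : C = A := eq_of_le_of_card_ge inf_le_left (by
      rw [hi, hj]
      exact Nat.pow_le_pow_right (by norm_num) (by omega))
    refine h1 (MulEquiv.ext fun a => (heq t a).2 ?_)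
    exact (mem_centralizer_singleton_iff.1 (hCA.symm ▸ a.2 : (a : G) ∈ C).2).symm
  rw [hj, hi] at hmod
  have hh : (j = 3 ∧ i = 0) ∨ (j = 4 ∧ i = 1) := by
    unfold Nat.ModEq at hmod
    interval_cases j <;> interval_cases i <;> simp at hmod ⊢
  rcases hh with ⟨rfl, rfl⟩ | ⟨rfl, rfl⟩
  · refine Or.inl ⟨by rw [hj]; norm_num, fun a ha hta => ?_⟩
    have haC : a ∈ C := ⟨ha, mem_centralizer_singleton_iff.2 hta.symm⟩
    have hb : C = ⊥ := card_eq_one.1 (by rw [hi, pow_zero])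
    rwa [hb, mem_bot] at haC
  · exact Or.inr ⟨by rw [hj]; norm_num, by rw [hi]; norm_num⟩

theorem card_mod (h : Setup Q) (hm : Mod Q A) : Nat.card A = 8 ∨ Nat.card A = 16 := by
  obtain ⟨t, ht, ht7⟩ := h.exists_seven
  rcases seven h hm ht ht7 with ⟨e, -⟩ | ⟨e, -⟩
  · exact Or.inl e
  · exact Or.inr e

/-- A normal subgroup of a module of order `16` of order at least four is acted on nontrivially. -/
theorem act_of_card (h : Setup Q) (hm : Mod Q A) {U : Subgroup G} (hUA : U ≤ A)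
    (h4 : 3 ≤ Nat.card U) : ∃ g : G, ∃ a ∈ U, g * a ≠ a * g := by
  by_contra hno
  push Not at hno
  obtain ⟨t, ht, ht7⟩ := h.exists_seven
  have hUC : U ≤ A ⊓ centralizer ({t} : Set G) := fun u hu =>
    ⟨hUA hu, mem_centralizer_singleton_iff.2 (hno t u hu).symm⟩
  have hle := card_le_of_le hUC
  rcases seven h hm ht ht7 with ⟨-, e⟩ | ⟨-, e⟩
  · have : U = ⊥ := eq_bot_iff.2 fun u hu => mem_bot.2 (e u (hUA hu) (hno t u hu))
    rw [this, card_bot] at h4
    omega
  · omega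

/-- An invariant set without fixed points of an element of order seven. -/
theorem seven_dvd (hm : Mod Q A) {t : G} (ht7 : t ^ 7 ∈ Q) (S : G → Prop) (hSA : ∀ x, S x → x ∈ A)
    (hSt : ∀ x, S x → S (t * x * t⁻¹)) (hfix : ∀ x, S x → t * x ≠ x * t) :
    7 ∣ Nat.card {x // S x} := by
  haveI : Fact (Nat.Prime 7) := ⟨by norm_num⟩
  let σ : {x // S x} → {x // S x} := fun x => ⟨t * x * t⁻¹, hSt x x.2⟩
  have hinj : Function.Injective σ := fun a b e =>
    Subtype.ext (by simpa [σ] using congrArg Subtype.val e)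
  let e : Equiv.Perm {x // S x} := Equiv.ofBijective σ ((Finite.injective_iff_bijective).1 hinj)
  have hpow : ∀ (n : ℕ) (x : {x // S x}), (((e ^ n) x : {x // S x}) : G) = t ^ n * x * (t ^ n)⁻¹ := by
    intro n
    induction n with
    | zero => intro x; simp
    | succ n ih =>
      intro x
      rw [pow_succ', Equiv.Perm.mul_apply]
      show t * ((e ^ n) x : {x // S x}).1 * t⁻¹ = _
      rw [ih, pow_succ']
      group
  have h7 : e ^ 7 = 1 := Equiv.ext fun x => Subtype.ext (by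
    rw [hpow, hm.cQ _ ht7 x (hSA x x.2), mul_inv_cancel_right]; rfl)
  by_cases hemp : IsEmpty {x // S x}
  · rw [Nat.card_of_isEmpty]; exact dvd_zero 7
  obtain ⟨x0⟩ := not_isEmpty_iff.1 hemp
  have he1 : e ≠ 1 := fun he => hfix x0 x0.2 (mul_inv_eq_iff_eq_mul.1
    (congrArg Subtype.val (Equiv.ext_iff.1 he x0) : t * x0 * t⁻¹ = x0))
  have hP : IsPGroup 7 (Subgroup.zpowers e) :=
    IsPGroup.of_card (n := 1) (by rw [Nat.card_zpowers, orderOf_eq_prime h7 he1, pow_one])
  haveI : IsEmpty (MulAction.fixedPoints (Subgroup.zpowers e) {x // S x}) := ⟨fun x =>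
    hfix (x : {x // S x}) (x : {x // S x}).2 (mul_inv_eq_iff_eq_mul.1
      (congrArg Subtype.val (x.2 ⟨e, mem_zpowers e⟩) :))⟩
  have := hP.card_modEq_card_fixedPoints {x // S x}
  rw [Nat.card_of_isEmpty (α := MulAction.fixedPoints (Subgroup.zpowers e) {x // S x})] at this
  exact Nat.modEq_zero_iff_dvd.1 this

/-- The orbit of an element of a module. -/
theorem orbit_dvd (h : Setup Q) (hm : Mod Q A) {c : G} (hc : c ∈ A) :
    ∃ S : Subgroup G, Q ≤ S ∧ (∀ g, g ∈ S ↔ g * c = c * g) ∧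
      Nat.card {x // ∃ g : G, g * c * g⁻¹ = x} = S.index ∧ S.index ∣ 168 := by
  let S : Subgroup G := MulAction.stabilizer (ConjAct G) c |>.comap ConjAct.toConjAct.toMonoidHom
  have hS : ∀ g, g ∈ S ↔ g * c = c * g := fun g => by
    show ConjAct.toConjAct g • c = c ↔ _
    rw [ConjAct.toConjAct_smul, mul_inv_eq_iff_eq_mul]
  have hQS : Q ≤ S := fun q hq => (hS q).2 (hm.cQ q hq c hc)
  refine ⟨S, hQS, hS, ?_, index_eq h ▸ index_dvd_of_le hQS⟩
  rw [index_comap_of_surjective _ ConjAct.toConjAct.surjective, MulAction.index_stabilizer,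
    ← Nat.card_coe_set_eq]
  exact Nat.card_congr (Equiv.subtypeEquivRight fun x => by
    constructor
    · rintro ⟨g, rfl⟩
      exact ⟨ConjAct.toConjAct g, ConjAct.toConjAct_smul g c⟩
    · rintro ⟨g, rfl⟩
      exact ⟨ConjAct.ofConjAct g, (ConjAct.smul_def g c).symm⟩)

/-- A module of order `16` is reducible. -/
theorem sixteen (h : Setup Q) (hm : Mod Q A) (h16 : Nat.card A = 16) :
    (∃ c ∈ A, c ≠ 1 ∧ ∀ g : G, g * c = c * g) ∨
      ∃ U : Subgroup G, U.Normal ∧ U ≤ A ∧ Nat.card U = 8 := by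
  haveI := hm.normal
  obtain ⟨t, ht, ht7⟩ := h.exists_seven
  have hC2 : Nat.card (A ⊓ centralizer {t} : Subgroup G) = 2 := by
    rcases seven h hm ht ht7 with ⟨e, -⟩ | ⟨-, e⟩
    · omega
    · exact e
  obtain ⟨c, hcC, hc1, -, hCc⟩ := card_two_gen hC2
  have hct : t * c = c * t := (mem_centralizer_singleton_iff.1 hcC.2).symm
  have hfx : ∀ x ∈ A, t * x = x * t → x = 1 ∨ x = c := fun x hx e =>
    hCc x ⟨hx, mem_centralizer_singleton_iff.2 e.symm⟩
  by_cases hfix : ∀ g : G, g * c = c * g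
  · exact Or.inl ⟨c, hcC.1, hc1, hfix⟩
  right
  obtain ⟨S, -, hS, hcard, hdvd⟩ := orbit_dvd h hm hcC.1
  have hne1 : S.index ≠ 1 := fun e => hfix fun g => (hS g).1 (index_eq_one.1 e ▸ mem_top g)
  set O : G → Prop := fun x => ∃ g : G, g * c * g⁻¹ = x with hO
  have hOA : ∀ x, O x → x ∈ A ∧ x ≠ 1 := by
    rintro _ ⟨g, rfl⟩
    exact ⟨hm.normal.conj_mem c hcC.1 g, fun e => hc1 (conj_eq_one_iff.1 e)⟩
  have hOconj : ∀ g x, O x → O (g * x * g⁻¹) := by
    rintro g _ ⟨g', rfl⟩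
    exact ⟨g * g', by group⟩
  -- the orbit minus `c`
  have h7 := seven_dvd hm ht7 (fun x => O x ∧ x ≠ c) (fun x hx => (hOA x hx.1).1)
    (fun x hx => ⟨hOconj t x hx.1, fun e => hx.2 (by
      rw [mul_inv_eq_iff_eq_mul, ← hct] at e; exact mul_left_cancel e)⟩)
    (fun x hx e => (hfx x (hOA x hx.1).1 e).elim (hOA x hx.1).2 hx.2)
  let eO : {x // O x} ≃ {x // O x ∧ x ≠ c} ⊕ Unit :=
    { toFun := fun x => if hx : (x : G) = c then Sum.inr () else Sum.inl ⟨x, x.2, hx⟩
      invFun := Sum.elim (fun x => ⟨x, x.2.1⟩) (fun _ => ⟨c, 1, by simp⟩)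
      left_inv := fun x => by
        by_cases hx : (x : G) = c
        · simp only [dif_pos hx, Sum.elim_inr]; exact Subtype.ext hx.symm
        · simp only [dif_neg hx, Sum.elim_inl]
      right_inv := fun x => by
        rcases x with x | x
        · simp [x.2.2]
        · simp }
  have hO15 : Nat.card {x // O x} ≤ 15 := by
    have h1 := Nat.card_le_card_of_injective
      (fun x : Option {x // O x} => (x.elim (1 : A) fun x => ⟨x, (hOA x x.2).1⟩)) (by
        rintro (_ | a) (_ | b) e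
        · rfl
        · exact absurd (congrArg Subtype.val e :).symm (hOA b b.2).2
        · exact absurd (congrArg Subtype.val e :) (hOA a a.2).2
        · exact congrArg some (Subtype.ext (congrArg Subtype.val e :)))
    rw [Finite.card_option, h16] at h1
    omega
  have hO8 : Nat.card {x // O x} = 8 := by
    rw [Nat.card_congr eO, Nat.card_sum, Nat.card_unique (α := Unit)] at hcard hO15 ⊢
    obtain ⟨k, hk⟩ := h7
    rw [hk] at hcard hO15 ⊢
    have hk2 : k ≤ 2 := by omega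
    interval_cases k
    · exact absurd hcard.symm hne1
    · rfl
    · rw [← hcard] at hdvd; norm_num at hdvd
  -- the complement of the orbit
  set B : G → Prop := fun x => x ∈ A ∧ x ≠ 1 ∧ ¬ O x with hB
  have hBc : Nat.card {x // B x} = 7 := by
    let e : A ≃ ({x // O x} ⊕ {x // B x}) ⊕ Unit :=
      { toFun := fun x => if hx : (x : G) = 1 then Sum.inr () else
          if hxO : O x then Sum.inl (Sum.inl ⟨x, hxO⟩) else Sum.inl (Sum.inr ⟨x, x.2, hx, hxO⟩)
        invFun := Sum.elim (Sum.elim (fun x => ⟨x, (hOA x x.2).1⟩) (fun x => ⟨x, x.2.1⟩)) (fun _ => 1)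
        left_inv := fun x => by
          by_cases hx : (x : G) = 1
          · simp only [dif_pos hx, Sum.elim_inr]; exact Subtype.ext hx.symm
          · by_cases hxO : O x <;> simp [hx, hxO]
        right_inv := fun x => by
          rcases x with (x | x) | x
          · simp [(hOA x x.2).2, x.2]
          · simp [x.2.2.1, x.2.2.2]
          · simp }
    have := Nat.card_congr e
    rw [h16, Nat.card_sum, Nat.card_sum, hO8, Nat.card_unique (α := Unit)] at this
    omega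
  have hBconj : ∀ g x, B x → B (g * x * g⁻¹) := fun g x hx =>
    ⟨hm.normal.conj_mem x hx.1 g, fun e => hx.2.1 (conj_eq_one_iff.1 e),
      fun hxO => hx.2.2 (by simpa [mul_assoc] using hOconj g⁻¹ _ hxO)⟩
  -- the image of `1 + t`
  let f : A →* A :=
    { toFun := fun a => a * MulAut.conjNormal t a
      map_one' := by rw [_root_.map_one, one_mul]
      map_mul' := fun a b => by
        rw [_root_.map_mul, mul_assoc, ← mul_assoc b,
          show b * MulAut.conjNormal t a = MulAut.conjNormal t a * b from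
            Subtype.ext (comm_of_sq hm.sq b.2 (MulAut.conjNormal t a : A).2)]
        simp only [mul_assoc] }
  have hfix' : ∀ a : A, a ∈ f.ker ↔ t * a = a * t := fun a => by
    rw [MonoidHom.mem_ker]
    show a * MulAut.conjNormal t a = 1 ↔ _
    rw [mul_eq_one_iff_inv_eq, show a⁻¹ = a from inv_eq_of_mul_eq_one_right (Subtype.ext (hm.sq a a.2)),
      eq_comm, Subtype.ext_iff, MulAut.conjNormal_apply, mul_inv_eq_iff_eq_mul]
  have hk2 : Nat.card f.ker = 2 := by
    rw [← hC2]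
    exact Nat.card_congr
      { toFun := fun a => ⟨(a : A), (a : A).2, mem_centralizer_singleton_iff.2 ((hfix' a).1 a.2).symm⟩
        invFun := fun a => ⟨⟨a, a.2.1⟩, (hfix' _).2 (mem_centralizer_singleton_iff.1 a.2.2).symm⟩
        left_inv := fun _ => rfl
        right_inv := fun _ => rfl }
  set Z := f.range.map A.subtype with hZ
  have hZA : Z ≤ A := map_subtype_le _
  have hZ8 : Nat.card Z = 8 := by
    rw [hZ, card_subtype]
    have := card_eq_card_quotient_mul_card_subgroup f.ker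
    rw [Nat.card_congr (QuotientGroup.quotientKerEquivRange f).toEquiv, hk2, h16] at this
    omega
  have hZt : ∀ x ∈ Z, t * x * t⁻¹ ∈ Z := by
    rintro _ ⟨_, ⟨a, rfl⟩, rfl⟩
    refine ⟨_, ⟨MulAut.conjNormal t a, rfl⟩, ?_⟩
    show ((MulAut.conjNormal t a * MulAut.conjNormal t (MulAut.conjNormal t a) : A) : G) =
      t * ((a * MulAut.conjNormal t a : A) : G) * t⁻¹
    simp only [coe_mul, MulAut.conjNormal_apply]
    group
  have hcZ : c ∉ Z := by
    intro hcZ
    obtain ⟨_, ⟨a, rfl⟩, hac⟩ := mem_map.1 hcZ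
    have e1 : (a : G) * (t * a * t⁻¹) = c := by
      rw [← hac]
      show _ = ((a * MulAut.conjNormal t a : A) : G)
      rw [coe_mul, MulAut.conjNormal_apply]
    have hsA := hm.sq
    have e2 : t * (a : G) * t⁻¹ = a * c := by
      rw [← e1, ← mul_assoc, hsA a a.2, one_mul]
    have htc : t * c * t⁻¹ = c := mul_inv_eq_iff_eq_mul.2 hct
    have hn : ∀ n : ℕ, t ^ n * (a : G) * (t ^ n)⁻¹ = a * c ^ n := by
      intro n
      induction n with
      | zero => simp
      | succ n ih =>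
        rw [pow_succ', show t * t ^ n * (a : G) * (t * t ^ n)⁻¹ = t * (t ^ n * a * (t ^ n)⁻¹) * t⁻¹ by group,
          ih, show t * ((a : G) * c ^ n) * t⁻¹ = (t * a * t⁻¹) * (t * c * t⁻¹) ^ n by
            rw [conj_pow]; group, e2, htc, mul_assoc, ← pow_succ']
    have h8 := hn 7
    rw [hm.cQ _ ht7 a a.2, mul_inv_cancel_right, show c ^ 7 = c * c * (c * c) * (c * c) * c by
      simp [pow_succ, mul_assoc], hsA c hcC.1] at h8
    simp only [one_mul] at h8
    exact hc1 (mul_eq_left.1 h8.symm)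
  have hZB := seven_dvd hm ht7 (fun x => B x ∧ x ∈ Z) (fun x hx => hx.1.1)
    (fun x hx => ⟨hBconj t x hx.1, hZt x hx.2⟩)
    (fun x hx e => (hfx x hx.1.1 e).elim hx.1.2.1 (fun e' => hcZ (e' ▸ hx.2)))
  have hle7 : Nat.card {x // B x ∧ x ∈ Z} ≤ 7 := by
    rw [← hBc]
    exact Nat.card_le_card_of_injective (fun x => (⟨x.1, x.2.1⟩ : {x // B x}))
      (fun a b e => Subtype.ext (congrArg Subtype.val e :))
  refine ⟨Z, ⟨fun z hz g => ?_⟩, hZA, hZ8⟩
  by_cases hz1 : z = 1
  · subst hz1; simp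
  have h07 : Nat.card {x // B x ∧ x ∈ Z} = 0 ∨ Nat.card {x // B x ∧ x ∈ Z} = 7 := by
    obtain ⟨k, hk⟩ := hZB
    omega
  rcases h07 with h0 | h7'
  · -- `B` is the coset `c Z` without `c`
    have hnot : ∀ x ∈ Z, x ≠ 1 → ¬ B x := fun x hx hx1 hxB => by
      rw [Nat.card_eq_zero] at h0
      rcases h0 with h0 | h0
      · exact h0.false ⟨x, hxB, hx⟩
      · exact not_finite {x // B x ∧ x ∈ Z}
    have hBcos : ∀ x, B x → c * x ∈ Z := by
      intro x hx
      have hidx : (Z.subgroupOf A).index = 2 := by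
        have := card_mul_index (Z.subgroupOf A)
        rw [Nat.card_congr (subgroupOfEquivOfLe hZA).toEquiv, hZ8, h16] at this
        omega
      have := (mul_mem_iff_of_index_two hidx (a := ⟨c, hcC.1⟩) (b := ⟨x, hx.1⟩)).2
        (iff_of_false hcZ (fun e => hnot x e hx.2.1 hx))
      exact this
    have hBall : ∀ y ∈ Z, y ≠ 1 → B (c * y) := by
      intro y hy hy1
      have hb : Function.Bijective (fun x : {x // B x} => (⟨⟨c * x, hBcos x x.2⟩, fun e => by
          have e' : c * (x : G) = 1 := congrArg Subtype.val e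
          have hxc : (x : G) = c := by
            rw [← mul_right_inj c, e', hm.sq c hcC.1]
          exact x.2.2.2 (hxc ▸ ⟨1, by simp⟩)⟩ : {y : Z // y ≠ 1})) := by
        refine (Nat.bijective_iff_injective_and_card _).2 ⟨fun a b e =>
          Subtype.ext (mul_left_cancel (congrArg (fun y : {y : Z // y ≠ 1} => ((y : Z) : G)) e :)), ?_⟩
        have h8 := Nat.card_congr (Equiv.optionSubtypeNe (1 : Z))
        rw [Finite.card_option, hZ8] at h8
        omega
      obtain ⟨x, hx⟩ := hb.2 ⟨⟨y, hy⟩, fun e => hy1 (congrArg Subtype.val e)⟩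
      have hxy : c * (x : G) = y := congrArg (fun y : {y : Z // y ≠ 1} => ((y : Z) : G)) hx
      rw [← hxy, ← mul_assoc, hm.sq c hcC.1, one_mul]
      exact x.2
    obtain ⟨z1, hz1Z, hz1', hz1z⟩ : ∃ z1 ∈ Z, z1 ≠ 1 ∧ z1 ≠ z := by
      by_contra hno
      push Not at hno
      have := Nat.card_le_card_of_injective
        (fun y : Z => if (y : G) = 1 then false else true) (fun a b e => Subtype.ext (by
          by_cases ha : (a : G) = 1 <;> by_cases hb : (b : G) = 1 <;> simp [ha, hb] at e ⊢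
          exact Subtype.ext ((hno a a.2 ha).trans (hno b b.2 hb).symm)))
      rw [hZ8] at this
      simp at this
    have hB1 := hBall z1 hz1Z hz1'
    have hB2 := hBall (z1 * z) (mul_mem hz1Z hz) (fun e => hz1z (by
      rw [← mul_left_inj z, e, hm.sq z (hZA hz)]))
    have hg1 := hBcos _ (hBconj g _ hB1)
    have hg2 := hBcos _ (hBconj g _ hB2)
    have hprod := mul_mem hg1 hg2
    have e1 : g * z * g⁻¹ = g * (c * z1) * g⁻¹ * (g * (c * (z1 * z)) * g⁻¹) := by
      rw [show g * (c * z1) * g⁻¹ * (g * (c * (z1 * z)) * g⁻¹) = g * (c * z1 * (c * z1) * z) * g⁻¹ by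
        group, hm.sq (c * z1) (mul_mem hcC.1 (hZA hz1Z)), one_mul]
    have e2 : c * (g * (c * z1) * g⁻¹) * (c * (g * (c * (z1 * z)) * g⁻¹)) =
        g * (c * z1) * g⁻¹ * (g * (c * (z1 * z)) * g⁻¹) := by
      have hcomm := comm_of_sq hm.sq hcC.1 (hBconj g _ hB1).1
      rw [hcomm, mul_assoc _ c, ← mul_assoc c c, hm.sq c hcC.1, one_mul]
    rw [e1, ← e2]
    exact hprod
  · -- `B` is `Z` without the identity
    have hb : Function.Bijective (fun x : {x // B x ∧ x ∈ Z} => (⟨x.1, x.2.1⟩ : {x // B x})) :=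
      (Nat.bijective_iff_injective_and_card _).2
        ⟨fun a b e => Subtype.ext (congrArg Subtype.val e :), by rw [h7', hBc]⟩
    have hBZ : ∀ x, B x → x ∈ Z := fun x hx => by
      obtain ⟨a, ha⟩ := hb.2 ⟨x, hx⟩
      obtain rfl : a.1 = x := congrArg Subtype.val ha
      exact a.2.2
    have hzB : B z := by
      refine ⟨hZA hz, hz1, fun hzO => ?_⟩
      have h2 : Nat.card {x // B x} + 2 ≤ Nat.card Z := by
        have h1 := Nat.card_le_card_of_injective
          (Sum.elim (fun x : {x // B x} => (⟨x.1, hBZ x x.2⟩ : Z)) (fun b : Bool => cond b (⟨z, hz⟩ : Z) 1)) (by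
            rintro (a | a) (b | b) e
            · exact congrArg Sum.inl (Subtype.ext (congrArg Subtype.val e :))
            · cases b
              · exact absurd (congrArg Subtype.val e :) a.2.2.1
              · have e' : a.1 = z := congrArg Subtype.val e
                exact absurd hzO (e' ▸ a.2.2.2)
            · cases a
              · exact absurd (congrArg Subtype.val e :).symm b.2.2.1
              · have e' : z = b.1 := congrArg Subtype.val e
                exact absurd hzO (e'.symm ▸ b.2.2.2)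
            · cases a <;> cases b
              · rfl
              · exact absurd (congrArg Subtype.val e :).symm hz1
              · exact absurd (congrArg Subtype.val e :) hz1
              · rfl)
        rw [Nat.card_sum, Nat.card_eq_fintype_card (α := Bool), Fintype.card_bool] at h1
        exact h1
      omega
    exact hBZ _ (hBconj g z hzB)

/-- A module of order `16` over a natural submodule: a global fixed point outside, or none for an involution. -/
theorem no_fixed_involution (h : Setup Q) (hθ : Frame θ Q) {J : Subgroup G} (hJ : Mod Q J) {ℓ : G → V3}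
    (hc : Coords θ W ⊥ ℓ) (hWJ : W ≤ J) (h16 : Nat.card J = 16) :
    (∃ c ∈ J, c ∉ W ∧ ∀ g : G, g * c = c * g) ∨
      ∀ e : G, e ∉ Q → e * e ∈ Q → ∀ x ∈ J, x ∉ W → e * x ≠ x * e := by
  haveI := hJ.normal
  haveI := hc.normal
  refine or_iff_not_imp_left.2 fun hno e he hee x hx hxW hex => ?_
  push Not at hno
  obtain ⟨t, hte⟩ := hθ.lift det_facts.2.2.2.2.1
  have htQ : t ∉ Q := fun hq => seven_facts.2.1 (hte ▸ hθ.mem_iff.1 hq)
  have ht7 : t ^ 7 ∈ Q := hθ.mem_iff.2 (by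
    rw [_root_.map_pow, Units.val_pow_eq_pow_val, hte]; exact seven_facts.1)
  obtain ⟨S, hQS, hS, hcard, hdvd⟩ := orbit_dvd h hJ hx
  set O : G → Prop := fun y => ∃ g : G, g * x * g⁻¹ = y with hO
  have hOJ : ∀ y, O y → y ∈ J ∧ y ∉ W := by
    rintro _ ⟨g, rfl⟩
    exact ⟨hJ.normal.conj_mem x hx g,
      fun hm => hxW (by simpa [mul_assoc] using hc.normal.conj_mem _ hm g⁻¹)⟩
  have hW8 : Nat.card W = 8 := by rw [hc.card_eq, card_bot]
  have hC2 : Nat.card (J ⊓ centralizer {t} : Subgroup G) = 2 := by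
    rcases seven h hJ htQ ht7 with ⟨e', -⟩ | ⟨-, e'⟩
    · omega
    · exact e'
  obtain ⟨c, hcC, hc1, -, hCc⟩ := card_two_gen hC2
  have hfxW : ∀ w ∈ W, t * w = w * t → w = 1 := fun w hw htw => mem_bot.1 ((hc.ker w hw).1
    (fixed_zero _ (by
      rw [← hte, ← hc.conj t w hw, mul_inv_eq_iff_eq_mul.2 htw])))
  have hcW : c ∉ W := fun hm => hc1 (hfxW c hm (mem_centralizer_singleton_iff.1 hcC.2).symm)
  have h8 : Nat.card {y // O y} = 8 := by
    have hle : Nat.card {y // O y} ≤ 8 := by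
      have h1 := Nat.card_le_card_of_injective
        (Sum.elim (fun y : {y // O y} => (⟨y.1, (hOJ _ y.2).1⟩ : J)) (fun w : W => ⟨w, hWJ w.2⟩)) (by
          rintro (a | a) (b | b) e'
          · exact congrArg Sum.inl (Subtype.ext (congrArg Subtype.val e' :))
          · exact absurd b.2 ((congrArg Subtype.val e' : a.1 = b.1) ▸ (hOJ _ a.2).2)
          · exact absurd a.2 ((congrArg Subtype.val e' : a.1 = b.1).symm ▸ (hOJ _ b.2).2)
          · exact congrArg Sum.inr (Subtype.ext (congrArg Subtype.val e' :)))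
      rw [Nat.card_sum, h16, hW8] at h1
      omega
    have hne : S.index ≠ 1 := fun e' => by
      obtain ⟨g, hg⟩ := hno x hx hxW
      exact hg ((hS g).1 (index_eq_one.1 e' ▸ mem_top g))
    -- the part of the orbit moved by `t`
    have h7 := seven_dvd hJ ht7 (fun y => O y ∧ y ≠ c) (fun y hy => (hOJ y hy.1).1)
      (fun y hy => ⟨by obtain ⟨⟨g, rfl⟩, -⟩ := hy; exact ⟨t * g, by group⟩, fun e' => hy.2 (by
        rw [mul_inv_eq_iff_eq_mul, ← (mem_centralizer_singleton_iff.1 hcC.2).symm] at e'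
        exact mul_left_cancel e')⟩)
      (fun y hy e' => (hCc y ⟨(hOJ y hy.1).1, mem_centralizer_singleton_iff.2 e'.symm⟩).elim
        (fun e'' => (hOJ y hy.1).2 (e'' ▸ one_mem W)) hy.2)
    have hsplit : Nat.card {y // O y ∧ y ≠ c} ≤ Nat.card {y // O y} ∧
        Nat.card {y // O y} ≤ Nat.card {y // O y ∧ y ≠ c} + 1 := by
      refine ⟨Nat.card_le_card_of_injective (fun y => (⟨y.1, y.2.1⟩ : {y // O y}))
        (fun a b e' => Subtype.ext (congrArg Subtype.val e' :)), ?_⟩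
      have := Nat.card_le_card_of_injective
        (fun y : {y // O y} => if hy : (y : G) = c then none else some (⟨y, y.2, hy⟩ : {y // O y ∧ y ≠ c}))
        (fun a b e' => by
          by_cases ha : (a : G) = c <;> by_cases hb : (b : G) = c <;> simp [ha, hb] at e'
          · exact Subtype.ext (ha.trans hb.symm)
          · exact Subtype.ext e')
      rwa [Finite.card_option] at this
    obtain ⟨k, hk⟩ := h7
    have hpos : 0 < Nat.card {y // O y} := by
      haveI : Nonempty {y // O y} := ⟨⟨x, 1, by simp⟩⟩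
      exact Nat.card_pos
    by_cases hcO : O c
    · have heq : Nat.card {y // O y} = Nat.card {y // O y ∧ y ≠ c} + 1 := by
        refine le_antisymm hsplit.2 ?_
        have := Nat.card_le_card_of_injective
          (fun o : Option {y // O y ∧ y ≠ c} =>
            o.elim (⟨c, hcO⟩ : {y // O y}) (fun y => ⟨y.1, y.2.1⟩)) (by
            rintro (_ | a) (_ | b) e'
            · rfl
            · exact absurd (congrArg Subtype.val e' :).symm b.2.2
            · exact absurd (congrArg Subtype.val e' :) a.2.2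
            · exact congrArg some (Subtype.ext (congrArg Subtype.val e' :)))
        rwa [Finite.card_option] at this
      rw [hcard] at hle hpos heq ⊢
      have hk1 : k ≤ 1 := by omega
      interval_cases k <;> omega
    · exfalso
      obtain ⟨g, hg⟩ := hno c hcC.1 hcW
      have hc' : g * c * g⁻¹ ≠ c := fun e' => hg (mul_inv_eq_iff_eq_mul.1 e')
      have hcW' : g * c * g⁻¹ ∉ W := fun hm =>
        hcW (by simpa [mul_assoc] using hc.normal.conj_mem _ hm g⁻¹)
      have hgO : ¬ O (g * c * g⁻¹) := fun ⟨g', hg'⟩ => hcO ⟨g⁻¹ * g', by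
        rw [show g⁻¹ * g' * x * (g⁻¹ * g')⁻¹ = g⁻¹ * (g' * x * g'⁻¹) * g by group, hg']
        group⟩
      let pts : Bool → G := fun b => cond b c (g * c * g⁻¹)
      have hpts : ∀ b, pts b ∈ J ∧ pts b ∉ W ∧ ¬ O (pts b) := fun b => by
        cases b
        · exact ⟨hJ.normal.conj_mem c hcC.1 g, hcW', hgO⟩
        · exact ⟨hcC.1, hcW, hcO⟩
      have h1 := Nat.card_le_card_of_injective
        (Sum.elim (Sum.elim (fun y : {y // O y} => (⟨y.1, (hOJ _ y.2).1⟩ : J))
          (fun w : W => ⟨w, hWJ w.2⟩)) (fun b : Bool => ⟨pts b, (hpts b).1⟩)) (by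
          rintro ((a | a) | a) ((b | b) | b) e' <;>
            have e'' := congrArg Subtype.val e' <;> simp only [Sum.elim_inl, Sum.elim_inr] at e''
          · exact congrArg (Sum.inl ∘ Sum.inl) (Subtype.ext e'')
          · exact absurd b.2 (e'' ▸ (hOJ _ a.2).2)
          · exact absurd a.2 (e''.symm ▸ (hpts b).2.2)
          · exact absurd a.2 (e''.symm ▸ (hOJ _ b.2).2)
          · exact congrArg (Sum.inl ∘ Sum.inr) (Subtype.ext e'')
          · exact absurd a.2 (e''.symm ▸ (hpts b).2.1)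
          · exact absurd b.2 (e'' ▸ (hpts a).2.2)
          · exact absurd b.2 (e'' ▸ (hpts a).2.1)
          · cases a <;> cases b
            · rfl
            · exact absurd e'' hc'
            · exact absurd e''.symm hc'
            · rfl)
      rw [Nat.card_sum, Nat.card_sum, h16, hW8, Nat.card_eq_fintype_card (α := Bool),
        Fintype.card_bool] at h1
      have hne7 : Nat.card {y // O y ∧ y ≠ c} = Nat.card {y // O y} :=
        Nat.card_congr (Equiv.subtypeEquivRight fun y =>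
          ⟨fun hy => hy.1, fun hy => ⟨hy, fun e' => hcO (e' ▸ hy)⟩⟩)
      omega
  rw [hcard] at h8
  have hH : (S.map θ).index = 8 := by
    rw [index_map_eq _ hθ.surj (hθ.ker ▸ hQS), h8]
  have h21 : Nat.card (S.map θ) = 21 := by
    have := card_mul_index (S.map θ)
    rw [hH, card_gl] at this
    omega
  have hord : orderOf (θ e) = 2 := orderOf_eq_prime
    (by rw [pow_two, ← _root_.map_mul]; exact MonoidHom.mem_ker.1 (hθ.ker ▸ hee))
    (fun h1 => he (hθ.ker ▸ MonoidHom.mem_ker.2 h1))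
  have hd := orderOf_dvd_natCard (⟨θ e, mem_map_of_mem θ ((hS e).2 hex)⟩ : S.map θ)
  rw [← orderOf_coe, hord, h21] at hd
  norm_num at hd

/-- Coordinates on a module of order eight. -/
theorem coords_of_mod (h : Setup Q) (hm : Mod Q A) (h8 : Nat.card A = 8) :
    ∃ (θ : G →* GL (Fin 3) (ZMod 2)) (ℓ : G → V3), Frame θ Q ∧ Coords θ A ⊥ ℓ := by
  haveI := hm.normal
  have hA2 : ∀ a : A, a ^ 2 = 1 := fun a => Subtype.ext (by rw [pow_two]; exact hm.sq a a.2)
  obtain ⟨n, L, M, hcard, hL, hLM, hM⟩ := InvolChar.A8Section.exists_linear_model hA2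
  obtain rfl : n = 3 := by
    rw [h8] at hcard
    exact (Nat.pow_right_injective le_rfl (show 2 ^ n = 2 ^ 3 by rw [← hcard]))
  let θ : G →* GL (Fin 3) (ZMod 2) := M.comp MulAut.conjNormal
  have hker : θ.ker = Q := by
    ext g
    rw [← centralizer_eq h hm, MonoidHom.mem_ker]
    show M (MulAut.conjNormal g) = 1 ↔ _
    rw [map_eq_one_iff M hM]
    constructor
    · intro e a ha
      have := congrArg Subtype.val (MulEquiv.ext_iff.1 e ⟨a, ha⟩)
      rw [MulAut.conjNormal_apply] at this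
      exact mul_inv_eq_iff_eq_mul.1 this
    · intro e
      exact MulEquiv.ext fun a => Subtype.ext (by
        rw [MulAut.conjNormal_apply]; exact mul_inv_eq_iff_eq_mul.2 (e a a.2))
  have hsurj : Function.Surjective θ := by
    rw [← MonoidHom.range_eq_top]
    refine eq_of_le_of_card_ge le_top ?_
    rw [← index_ker, hker, index_eq h, card_top, card_gl]
  refine ⟨θ, fun g => if hg : g ∈ A then L ⟨g, hg⟩ else 0, ⟨hsurj, hker⟩, inferInstance, bot_le,
    fun a ha b hb => ?_, fun g a ha => ?_, fun v => ?_, fun a ha => ?_⟩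
  · simp only [dif_pos (mul_mem ha hb), dif_pos ha, dif_pos hb]
    exact hL ⟨a, ha⟩ ⟨b, hb⟩
  · simp only [dif_pos (hm.normal.conj_mem a ha g), dif_pos ha]
    refine Eq.trans (congrArg L (Subtype.ext ?_)) (hLM (MulAut.conjNormal g) ⟨a, ha⟩)
    rw [MulAut.conjNormal_apply]
  · refine ⟨L.symm v, (L.symm v).2, ?_⟩
    simp
  · have h0 : L 1 = 0 := by
      have := hL 1 1
      rw [one_mul] at this
      exact add_eq_left.1 this.symm
    simp only [dif_pos ha, mem_bot]
    rw [← h0, L.injective.eq_iff]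
    exact ⟨fun e => congrArg Subtype.val e, fun e => Subtype.ext e⟩

/-- Coordinates on a natural factor. -/
theorem coords_quot (h : Setup Q) (A N : Subgroup G) [hA : A.Normal] [N.Normal] (hNA : N ≤ A)
    (hAQ : A ≤ Q) (hsq : ∀ a ∈ A, a * a ∈ N) (hQA : ∀ q ∈ Q, ∀ a ∈ A, q * a * q⁻¹ * a⁻¹ ∈ N)
    (hcard : Nat.card A = 8 * Nat.card N) (hact : ∃ g : G, ∃ a ∈ A, g * a * g⁻¹ * a⁻¹ ∉ N) :
    ∃ (θ : G →* GL (Fin 3) (ZMod 2)) (ℓ : G → V3), Frame θ Q ∧ Coords θ A N ℓ := by
  set mk := QuotientGroup.mk' N with hmk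
  have hS := h.quotient N (hNA.trans hAQ)
  have hM : Mod (Q.map mk) (A.map mk) := by
    refine ⟨hA.map mk (QuotientGroup.mk'_surjective N), map_mono hAQ, ?_, ?_, ?_⟩
    · rintro _ ⟨a, ha, rfl⟩
      rw [← _root_.map_mul]; exact mk_eq_one.2 (hsq a ha)
    · rintro _ ⟨q, hq, rfl⟩ _ ⟨a, ha, rfl⟩
      have h1 := mk_eq_one.2 (hQA q hq a ha)
      rw [← hmk, _root_.map_mul, _root_.map_mul, _root_.map_mul, _root_.map_inv, _root_.map_inv] at h1
      exact mul_inv_eq_iff_eq_mul.1 (mul_inv_eq_one.1 h1)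
    · obtain ⟨g, a, ha, hne⟩ := hact
      refine ⟨mk g, mk a, mem_map_of_mem _ ha, fun e => hne (mk_eq_one.1 ?_)⟩
      rw [← hmk, _root_.map_mul, _root_.map_mul, _root_.map_mul, _root_.map_inv, _root_.map_inv, e]
      group
  have h8 : Nat.card (A.map mk) = 8 := by
    have e : (A.map mk).comap mk = A := by ext g; exact mem_map_mk hNA
    have h1 := card_comap_mk N (A.map mk)
    rw [← hmk, e, hcard, mul_comm 8] at h1
    exact (Nat.eq_of_mul_eq_mul_left Nat.card_pos h1).symm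
  obtain ⟨θ', ℓ', hθ', hc'⟩ := coords_of_mod hS hM h8
  refine ⟨θ'.comp mk, fun g => ℓ' (mk g), ⟨hθ'.surj.comp (QuotientGroup.mk'_surjective N), ?_⟩,
    hA, hNA, fun a ha b hb => ?_, fun g a ha => ?_, fun v => ?_, fun a ha => ?_⟩
  · rw [← MonoidHom.comap_ker, hθ'.ker]
    ext g
    exact mem_map_mk (hNA.trans hAQ)
  · rw [_root_.map_mul]
    exact hc'.add _ (mem_map_of_mem _ ha) _ (mem_map_of_mem _ hb)
  · rw [_root_.map_mul, _root_.map_mul, _root_.map_inv]
    exact hc'.conj _ _ (mem_map_of_mem _ ha)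
  · obtain ⟨x, hx, hxv⟩ := hc'.surj v
    obtain ⟨a, ha, rfl⟩ := mem_map.1 hx
    exact ⟨a, ha, hxv⟩
  · rw [hc'.ker _ (mem_map_of_mem _ ha), mem_bot, hmk]
    exact mk_eq_one

/-- A section of rank five over two transvections. -/
theorem no_five (h : Setup Q) (A D : Subgroup G) (e1 e2 : G) (hDA : D ≤ A) (hAQ : A ≤ Q)
    (h1 : e1 ∉ Q) (h2 : e2 ∉ Q) (h12 : e1⁻¹ * e2 ∉ Q)
    (hcA : ∀ a ∈ A, ∀ x ∈ D, a * x = x * a) (hc1 : ∀ x ∈ D, e1 * x = x * e1)
    (hc2 : ∀ x ∈ D, e2 * x = x * e2) (hsqA : ∀ a ∈ A, a * a ∈ D)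
    (hcomA : ∀ a ∈ A, ∀ b ∈ A, a * b * a⁻¹ * b⁻¹ ∈ D)
    (hA1 : ∀ a ∈ A, e1 * a * e1⁻¹ * a⁻¹ ∈ D) (hA2 : ∀ a ∈ A, e2 * a * e2⁻¹ * a⁻¹ ∈ D)
    (hs1 : e1 * e1 ∈ D) (hs2 : e2 * e2 ∈ D) (hγ : e1 * e2 * e1⁻¹ * e2⁻¹ ∈ D)
    (hcard : 8 * Nat.card D ≤ Nat.card A) : False := by
  set S : Set G := (A : Set G) ∪ {e1, e2} with hS'
  set H := closure S with hH
  have hAH : A ≤ H := fun a ha => subset_closure (Or.inl ha)
  have hdc : ∀ x ∈ H, ∀ y ∈ D, Commute x y := by
    intro x hx y hy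
    have hle : H ≤ centralizer ({y} : Set G) := by
      rw [hH, closure_le]
      rintro x (hx | rfl | rfl)
      · exact mem_centralizer_singleton_iff.2 (hcA x hx y hy)
      · exact mem_centralizer_singleton_iff.2 (hc1 y hy)
      · exact mem_centralizer_singleton_iff.2 (hc2 y hy)
    exact mem_centralizer_singleton_iff.1 (hle hx)
  have hflip : ∀ x y : G, x * y * x⁻¹ * y⁻¹ ∈ D → y * x * y⁻¹ * x⁻¹ ∈ D := fun x y hm => by
    rw [show y * x * y⁻¹ * x⁻¹ = (x * y * x⁻¹ * y⁻¹)⁻¹ by group]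
    exact inv_mem hm
  have hgen : ∀ x ∈ S, ∀ y ∈ S, x * y * x⁻¹ * y⁻¹ ∈ D := by
    rintro x (hx | rfl | rfl) y (hy | rfl | rfl)
    · exact hcomA x hx y hy
    · exact hflip _ _ (hA1 x hx)
    · exact hflip _ _ (hA2 x hx)
    · exact hA1 y hy
    · simp
    · exact hγ
    · exact hA2 y hy
    · exact hflip _ _ hγ
    · simp
  have hcomm : ∀ x ∈ H, ∀ y ∈ H, x * y * x⁻¹ * y⁻¹ ∈ D := by
    intro x hx y hy
    induction hx, hy using closure_induction₂ with
    | mem x y hx hy => exact hgen x hx y hy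
    | one_left y _ => simp
    | one_right x _ => simp
    | mul_left x y z hx hy hz h1 h2 =>
      rw [show x * y * z * (x * y)⁻¹ * z⁻¹ = x * (y * z * y⁻¹ * z⁻¹) * x⁻¹ * (x * z * x⁻¹ * z⁻¹) by
        group, (hdc x hx _ h2).eq, mul_inv_cancel_right]
      exact mul_mem h2 h1
    | mul_right y z x hy hz hx h1 h2 =>
      rw [show x * (y * z) * x⁻¹ * (y * z)⁻¹ = (x * y * x⁻¹ * y⁻¹) * (y * (x * z * x⁻¹ * z⁻¹) * y⁻¹) by
        group, (hdc y hy _ h2).eq, mul_inv_cancel_right]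
      exact mul_mem h1 h2
    | inv_left x y hx hy h1 =>
      rw [show x⁻¹ * y * x⁻¹⁻¹ * y⁻¹ = x⁻¹ * (x * y * x⁻¹ * y⁻¹)⁻¹ * x by group,
        (hdc x⁻¹ (inv_mem hx) _ (inv_mem h1)).eq, inv_mul_cancel_right]
      exact inv_mem h1
    | inv_right x y hx hy h1 =>
      rw [show x * y⁻¹ * x⁻¹ * y⁻¹⁻¹ = y⁻¹ * (x * y * x⁻¹ * y⁻¹)⁻¹ * y by group,
        (hdc y⁻¹ (inv_mem hy) _ (inv_mem h1)).eq, inv_mul_cancel_right]
      exact inv_mem h1
  have hsqH : ∀ x ∈ H, x * x ∈ D := by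
    intro x hx
    induction hx using closure_induction with
    | mem x hx =>
      rcases hx with hx | rfl | rfl
      · exact hsqA x hx
      · exact hs1
      · exact hs2
    | one => simp
    | mul x y hx hy h1 h2 =>
      rw [show x * y * (x * y) = x * (y * x * y⁻¹ * x⁻¹) * x * (y * y) by group,
        (hdc x hx _ (hcomm y hy x hx)).eq, mul_assoc (y * x * y⁻¹ * x⁻¹) x x]
      exact mul_mem (mul_mem (hcomm y hy x hx) h1) h2
    | inv x hx h1 => rw [← _root_.mul_inv_rev]; exact inv_mem h1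
  have hlt := h.rank H D (hDA.trans hAH)
    (fun x hx y hy => by rw [(hdc x hx y hy).eq, mul_inv_cancel_right]; exact hy) hcomm hsqH
  let F : A × Bool × Bool → H := fun p =>
    ⟨p.1 * cond p.2.1 e1 1 * cond p.2.2 e2 1, mul_mem (mul_mem (hAH p.1.2)
      (by cases p.2.1; exacts [one_mem H, subset_closure (Or.inr (Or.inl rfl))]))
      (by cases p.2.2; exacts [one_mem H, subset_closure (Or.inr (Or.inr rfl))])⟩
  haveI := h.normal
  have hF : Function.Injective F := by
    rintro ⟨a, i, j⟩ ⟨a', i', j'⟩ e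
    have e' : (a : G) * cond i e1 1 * cond j e2 1 = a' * cond i' e1 1 * cond j' e2 1 :=
      congrArg Subtype.val e
    have hq : ((cond i e1 1 * cond j e2 1 : G) : G ⧸ Q) = (cond i' e1 1 * cond j' e2 1 : G) := by
      have := congrArg (fun g : G => (g : G ⧸ Q)) e'
      simp only [QuotientGroup.mk_mul, (QuotientGroup.eq_one_iff (a : G)).2 (hAQ a.2),
        (QuotientGroup.eq_one_iff (a' : G)).2 (hAQ a'.2), one_mul] at this
      simpa [QuotientGroup.mk_mul] using this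
    have n1 : (e1 : G ⧸ Q) ≠ 1 := fun e => h1 ((QuotientGroup.eq_one_iff e1).1 e)
    have n2 : (e2 : G ⧸ Q) ≠ 1 := fun e => h2 ((QuotientGroup.eq_one_iff e2).1 e)
    have n12 : (e1 : G ⧸ Q) ≠ e2 := fun e => h12 (QuotientGroup.eq.1 e)
    have s1 : (e1 : G ⧸ Q) * e1 = 1 := (QuotientGroup.eq_one_iff (e1 * e1)).2 (hAQ (hDA hs1))
    have n3 : (e1 : G ⧸ Q) * e2 ≠ 1 := fun e => n12 (mul_left_cancel (e.trans s1.symm)).symm
    have hij : i = i' ∧ j = j' := by
      cases i <;> cases i' <;> cases j <;> cases j' <;>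
        simp [n1, n2, n12, n3, n1.symm, n2.symm, n12.symm, n3.symm] at hq ⊢
    obtain ⟨rfl, rfl⟩ := hij
    rw [mul_assoc, mul_assoc, mul_left_inj] at e'
    rw [Subtype.ext e']
  have := Nat.card_le_card_of_injective F hF
  rw [Nat.card_prod, Nat.card_prod, Nat.card_eq_fintype_card (α := Bool), Fintype.card_bool] at this
  omega

end ModLemmas

end CfsgLib.RankFourL32
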