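import Cfsg.Agent.Lib.RankFourL32.Split

/-!
Squares on a natural factor over a natural module, and the homocyclic case of order `64`.
-/

set_option autoImplicit false
set_option linter.unusedSectionVars false
set_option linter.style.haveILetI false

open scoped Classical

namespace CfsgLib.RankFourL32

open Subgroup Matrix RankFourA5

variable {G : Type*} [Group G] {Q A N W : Subgroup G} {θ : G →* GL (Fin 3) (ZMod 2)} {ℓ : G → V3}

theorem comm_mem [hW : W.Normal] {S : Subgroup G} (hsq : ∀ q ∈ S, q * q ∈ W) {a b : G} (ha : a ∈ S) (hb : b ∈ S) :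
    a * b * a⁻¹ * b⁻¹ ∈ W := by
  have h3 : b⁻¹ * (a * a)⁻¹ * b ∈ W := by
    have := hW.conj_mem _ (inv_mem (hsq a ha)) b⁻¹
    rwa [inv_inv] at this
  rw [show a * b * a⁻¹ * b⁻¹ = a * b * (a * b) * (b⁻¹ * (a * a)⁻¹ * b) * (b * b)⁻¹ by group]
  exact mul_mem (mul_mem (hsq _ (mul_mem ha hb)) h3) (inv_mem (hsq b hb))

theorem sq_conj (g x : G) : g * x * g⁻¹ * (g * x * g⁻¹) = g * (x * x) * g⁻¹ := by group

theorem sq_mul (hc : ∀ a ∈ A, ∀ b ∈ A, a * b = b * a) {a b : G} (ha : a ∈ A) (hb : b ∈ A) :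
    a * b * (a * b) = a * a * (b * b) :=
  (show Commute b a from hc b hb a ha).mul_mul_mul_comm a b

/-- The coordinates of the elements over the centre. -/
def pre (hc : Coords θ A N ℓ) : Subgroup G where
  carrier := {a | a ∈ A ∧ (ℓ a = 0 ∨ ℓ a = d)}
  one_mem' := ⟨one_mem A, Or.inl hc.map_one⟩
  mul_mem' := fun {a b} ha hb => ⟨mul_mem ha.1 hb.1, by
    rw [hc.add a ha.1 b hb.1]
    rcases ha.2 with e | e <;> rcases hb.2 with e' | e' <;> rw [e, e'] <;>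
      simp [RankFourL32.add_self]⟩
  inv_mem' := fun {a} ha => ⟨inv_mem ha.1, by rw [hc.map_inv ha.1]; exact ha.2⟩

theorem mem_pre (hc : Coords θ A N ℓ) {a : G} : a ∈ pre hc ↔ a ∈ A ∧ (ℓ a = 0 ∨ ℓ a = d) := Iff.rfl

theorem d_ne_zero : d ≠ 0 := by decide

theorem card_pre [Finite G] (hc : Coords θ A N ℓ) : Nat.card (pre hc) = 2 * Nat.card N := by
  obtain ⟨a0, ha0, hv⟩ := hc.surj d
  have hN : N ≤ pre hc := fun n hn => ⟨hc.le hn, Or.inl ((hc.ker n (hc.le hn)).2 hn)⟩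
  have hb : Function.Bijective (fun p : Bool × N => (⟨cond p.1 a0 1 * p.2,
      mul_mem (by cases p.1; exacts [one_mem _, ⟨ha0, Or.inr hv⟩]) (hN p.2.2)⟩ : pre hc)) := by
    refine ⟨?_, ?_⟩
    · rintro ⟨b, n⟩ ⟨b', n'⟩ e
      have e' : cond b a0 1 * (n : G) = cond b' a0 1 * n' := congrArg Subtype.val e
      have hl : ∀ (b : Bool) (n : N), ℓ (cond b a0 1 * (n : G)) = cond b d 0 := fun b n => by
        cases b
        · rw [cond_false, one_mul, (hc.ker _ (hc.le n.2)).2 n.2]; rfl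
        · rw [cond_true, hc.add _ ha0 _ (hc.le n.2), hv, (hc.ker _ (hc.le n.2)).2 n.2, add_zero]; rfl
      obtain rfl : b = b' := by
        have h1 := congrArg ℓ e'
        rw [hl, hl] at h1
        cases b <;> cases b' <;> simp [d_ne_zero, d_ne_zero.symm] at h1 ⊢
      rw [Subtype.ext (mul_left_cancel e')]
    · rintro ⟨a, ha, h | h⟩
      · exact ⟨(false, ⟨a, (hc.ker a ha).1 h⟩), Subtype.ext (one_mul a)⟩
      · refine ⟨(true, ⟨a0⁻¹ * a, (hc.eq_iff ha0 ha).1 (hv.trans h.symm)⟩), Subtype.ext ?_⟩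
        exact mul_inv_cancel_left a0 a
  rw [← Nat.card_congr (Equiv.ofBijective _ hb), Nat.card_prod, Nat.card_eq_fintype_card (α := Bool),
    Fintype.card_bool]

section Lifts

variable [Finite G]

theorem exists_f (hθ : Frame θ Q) : ∃ f : G, (θ f : M3) = mF ∧ (θ (f * f) : M3) = mT1 ∧
    f * f * (f * f) ∈ Q ∧ f * f ∉ Q := by
  obtain ⟨f, hf⟩ := hθ.lift det_facts.1
  have h1 : (θ (f * f) : M3) = mT1 := by rw [map_mul, Units.val_mul, hf]; rfl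
  refine ⟨f, hf, h1, hθ.mem_iff.2 ?_, fun hq => pow_facts.2.2.1 (h1 ▸ hθ.mem_iff.1 hq)⟩
  rw [map_mul, Units.val_mul, h1]
  exact pow_facts.2.2.2.2.2.2.2.1

theorem exists_r (h : Setup Q) (hθ : Frame θ Q) : ∃ r : G, (θ r : M3) = mR ∧ r * r * r = 1 := by
  obtain ⟨g, hg⟩ := hθ.lift det_facts.2.1
  have hm3 : mR ^ 3 = 1 := by
    rw [pow_succ, pow_succ, pow_one]; exact pow_facts.2.1
  have h3 : g ^ 3 ∈ Q := hθ.mem_iff.2 (by rw [map_pow, Units.val_pow_eq_pow_val, hg, hm3])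
  obtain ⟨n, hn⟩ := (IsPGroup.iff_orderOf.1 h.pgroup) ⟨g ^ 3, h3⟩
  rw [← orderOf_coe] at hn
  have h1 : 4 ^ n % 3 = 1 := by rw [Nat.pow_mod]; simp
  refine ⟨g ^ (4 ^ n), ?_, ?_⟩
  · rw [map_pow, Units.val_pow_eq_pow_val, hg, ← Nat.div_add_mod (4 ^ n) 3, h1, pow_add, pow_mul, hm3,
      one_pow, one_mul, pow_one]
  · rw [← pow_add, ← pow_add, show 4 ^ n + 4 ^ n + 4 ^ n = 3 * (2 ^ n * 2 ^ n) by
      rw [← mul_pow]; ring, pow_mul, pow_mul, ← hn, pow_orderOf_eq_one, one_pow]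

/-- The three conjugate lifts of the transvections with centre `d`. -/
theorem triple (hθ : Frame θ Q) {e1 r : G} (h1 : (θ e1 : M3) = mT1) (hr : (θ r : M3) = mR)
    (hr3 : r * r * r = 1) :
    (θ (r * e1 * r⁻¹) : M3) = mT2 ∧ (θ (r * (r * e1 * r⁻¹) * r⁻¹) : M3) = mT3 ∧
      r * (r * (r * e1 * r⁻¹) * r⁻¹) * r⁻¹ = e1 ∧
      e1 * (r * e1 * r⁻¹) * (r * (r * e1 * r⁻¹) * r⁻¹)⁻¹ ∈ Q ∧
      e1 ∉ Q ∧ r * e1 * r⁻¹ ∉ Q ∧ e1⁻¹ * (r * e1 * r⁻¹) ∉ Q := by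
  have hri : r⁻¹ = r * r := inv_eq_of_mul_eq_one_right (by rw [← mul_assoc]; exact hr3)
  have h2 : (θ (r * e1 * r⁻¹) : M3) = mT2 := by
    rw [hri, map_mul, map_mul, map_mul, Units.val_mul, Units.val_mul, Units.val_mul, hr, h1]; rfl
  have h3 : (θ (r * (r * e1 * r⁻¹) * r⁻¹) : M3) = mT3 := by
    rw [map_mul, map_mul, Units.val_mul, Units.val_mul, h2, hri, map_mul, Units.val_mul, hr]; rfl
  refine ⟨h2, h3, ?_, ?_, fun e => pow_facts.2.2.1 (h1 ▸ hθ.mem_iff.1 e),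
    fun e => pow_facts.2.2.2.1 (h2 ▸ hθ.mem_iff.1 e), fun e => ?_⟩
  · calc r * (r * (r * e1 * r⁻¹) * r⁻¹) * r⁻¹ = r * r * r * e1 * (r * r * r)⁻¹ := by group
      _ = e1 := by rw [hr3]; simp
  · refine hθ.mem_iff.2 ?_
    rw [map_mul, map_mul, Units.val_mul, Units.val_mul, h1, h2, pow_facts.2.2.2.2.2.1, ← h3]
    exact (by rw [← Units.val_mul, ← map_mul, mul_inv_cancel, map_one, Units.val_one])
  · have h4 := hθ.mem_iff.1 e
    rw [map_mul, Units.val_mul, h2] at h4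
    refine pow_facts.2.2.2.2.2.2.2.2.2 ?_
    calc mT1 = mT1 * ((θ e1⁻¹ : M3) * mT2) := by rw [h4, mul_one]
      _ = mT2 := by
        rw [← mul_assoc, ← h1, ← Units.val_mul, ← map_mul, mul_inv_cancel, map_one, Units.val_one,
          one_mul]

end Lifts

variable [Finite G]

theorem exp_two_false (h : Setup Q) (hsq : ∀ k ∈ A, k * k = 1) (hcard : 32 ≤ Nat.card A) : False := by
  obtain ⟨j, hj, hj'⟩ := card_elem h.rank hsq
  interval_cases j <;> omega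

/-- Squaring is a coordinate map on a natural factor over a natural module. -/
theorem squares_coords (h : Setup Q) (hθ : Frame θ Q) (hc : Coords θ W ⊥ ℓ) (hWQ : W ≤ Q)
    (K J : Subgroup G) [K.Normal] [J.Normal] (hWJ : W ≤ J) (hJK : J ≤ K) (hKQ : K ≤ Q)
    (hJ2 : ∀ x ∈ J, x * x = 1) (hJc : ∀ x ∈ J, ∀ k ∈ K, k * x = x * k) (hsq : ∀ k ∈ K, k * k ∈ W)
    (hQK : ∀ q ∈ Q, ∀ k ∈ K, q * k * q⁻¹ * k⁻¹ ∈ J) (hcard : Nat.card K = 8 * Nat.card J) :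
    (∀ a ∈ K, ∀ b ∈ K, a * b = b * a) ∧ Coords θ K J (fun k => ℓ (k * k)) := by
  haveI := hc.normal
  have hK64 : 32 ≤ Nat.card K := by
    have h1 := card_le_of_le hWJ
    rw [hc.card_eq, card_bot] at h1
    omega
  have hne : ∃ k ∈ K, k * k ≠ 1 := by
    by_contra hno
    push Not at hno
    exact exp_two_false h hno hK64
  have hstep : ∀ k ∈ K, ∀ j ∈ J, k * j * (k * j) = k * k := fun k hk j hj => by
    rw [(show Commute j k from (hJc j hj k hk).symm).mul_mul_mul_comm, hJ2 j hj, mul_one]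
  have hact : ∃ g : G, ∃ a ∈ K, g * a * g⁻¹ * a⁻¹ ∉ J := by
    by_contra hno
    push Not at hno
    obtain ⟨k, hk, hk1⟩ := hne
    refine hk1 (mem_bot.1 (hc.fixed_mem hθ (hsq k hk) fun g => mem_bot.2 ?_))
    have e : g * k * g⁻¹ = k * (k⁻¹ * (g * k * g⁻¹ * k⁻¹) * k) := by group
    have hj : k⁻¹ * (g * k * g⁻¹ * k⁻¹) * k ∈ J := by
      have := Subgroup.Normal.conj_mem (inferInstance : J.Normal) _ (hno g k hk) k⁻¹
      rwa [inv_inv] at this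
    rw [← sq_conj, e, hstep k hk _ hj, mul_inv_cancel]
  obtain ⟨θ', lam, hθ', hl⟩ := coords_quot h K J hJK hKQ
    (fun k hk => hWJ (hsq k hk)) hQK hcard hact
  let F : V3 → V3 := fun v => ℓ ((hl.surj v).choose * (hl.surj v).choose)
  have hF : ∀ k ∈ K, F (lam k) = ℓ (k * k) := fun k hk => by
    obtain ⟨hm, hv⟩ := (hl.surj (lam k)).choose_spec
    have hj := (hl.eq_iff hm hk).1 hv
    show ℓ _ = _
    have e := hstep _ hm _ hj
    rw [mul_inv_cancel_left] at e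
    rw [e]
  have hequiv : ∀ (g : G) (v : V3), F ((θ' g : M3) *ᵥ v) = (θ g : M3) *ᵥ F v := fun g v => by
    obtain ⟨k, hk, rfl⟩ := hl.surj v
    rw [← hl.conj g k hk, hF _ ((inferInstance : K.Normal).conj_mem k hk g), sq_conj,
      hc.conj g _ (hsq k hk), hF k hk]
  have hF0 : F 0 = 0 := by
    have h1 := hF 1 (one_mem K)
    rw [hl.map_one, one_mul, hc.map_one] at h1
    exact h1
  have hne0 : ∀ v, v ≠ 0 → F v ≠ 0 := fun v hv e => by
    have hall : ∀ w, F w = 0 := fun w => by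
      by_cases hw : w = 0
      · rw [hw, hF0]
      obtain ⟨M, hM, hMv⟩ := transitive v w hv hw
      obtain ⟨g, hg⟩ := hθ'.lift hM
      rw [← hMv, ← hg, hequiv, e, mulVec_zero]
    obtain ⟨k, hk, hk1⟩ := hne
    exact hk1 (mem_bot.1 ((hc.ker _ (hsq k hk)).1 ((hF k hk).symm.trans (hall _))))
  have hsurj : Function.Surjective F := fun w => by
    by_cases hw : w = 0
    · exact ⟨0, by rw [hF0, hw]⟩
    obtain ⟨M, hM, hMv⟩ := transitive _ w (hne0 d d_ne_zero) hw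
    obtain ⟨g, hg⟩ := hθ.lift hM
    exact ⟨(θ' g : M3) *ᵥ d, by rw [hequiv, hg, hMv]⟩
  have hinj : Function.Injective F := Finite.injective_iff_surjective.2 hsurj
  set a : V3 := ![1, 0, 0] with ha
  set b : V3 := ![0, 1, 0] with hb
  have hbase : F (a + b) = F a + F b := by
    obtain ⟨z, hz⟩ := hsurj (F (a + b) + F a + F b)
    have hfix : ∀ M : M3, M.det = 1 → M *ᵥ a = b → M *ᵥ b = a + b → M *ᵥ z = z := fun M hM h1 h2 => by
      obtain ⟨g, hg⟩ := hθ'.lift hM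
      refine hinj ?_
      rw [← hg, hequiv, hz, mulVec_add, mulVec_add, ← hequiv, ← hequiv, ← hequiv, hg, mulVec_add, h1,
        h2, show b + (a + b) = a by rw [add_comm a b, ← add_assoc, RankFourL32.add_self, zero_add]]
      abel
    have hfix' : ∀ M : M3, M.det = 1 → M *ᵥ a = a → M *ᵥ b = b → M *ᵥ z = z := fun M hM h1 h2 => by
      obtain ⟨g, hg⟩ := hθ'.lift hM
      refine hinj ?_
      rw [← hg, hequiv, hz, mulVec_add, mulVec_add, ← hequiv, ← hequiv, ← hequiv, hg, mulVec_add, h1, h2]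
    have hz0 := line_point z (hfix mC det_facts.2.2.2.2.2.1 line_action.1 line_action.2.1)
      (hfix' mX det_facts.2.2.2.2.2.2 line_action.2.2.1 line_action.2.2.2)
    rw [hz0, hF0] at hz
    calc F (a + b) = F (a + b) + F a + F b + (F a + F b) := by
          rw [add_assoc (F (a + b)), add_assoc, RankFourL32.add_self, add_zero]
      _ = _ := by rw [← hz, zero_add]
  have hadd : ∀ x y, F (x + y) = F x + F y := fun x y => by
    by_cases hx : x = 0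
    · rw [hx, hF0, zero_add, zero_add]
    by_cases hy : y = 0
    · rw [hy, hF0, add_zero, add_zero]
    by_cases hxy : x = y
    · rw [hxy, RankFourL32.add_self, RankFourL32.add_self, hF0]
    obtain ⟨M, hM, h1, h2⟩ := transitive_pairs x y hx hy hxy
    obtain ⟨g, hg⟩ := hθ'.lift hM
    have e1 : (θ' g : M3) *ᵥ a = x := by rw [hg, ha, h1]
    have e2 : (θ' g : M3) *ᵥ b = y := by rw [hg, hb, h2]
    calc F (x + y) = F ((θ' g : M3) *ᵥ (a + b)) := by rw [mulVec_add, e1, e2]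
      _ = (θ g : M3) *ᵥ F a + (θ g : M3) *ᵥ F b := by rw [hequiv, hbase, mulVec_add]
      _ = F x + F y := by rw [← hequiv, ← hequiv, e1, e2]
  have hsm : ∀ x ∈ K, ∀ y ∈ K, ℓ (x * y * (x * y)) = ℓ (x * x) + ℓ (y * y) := fun x hx y hy => by
    rw [← hF _ (mul_mem hx hy), hl.add x hx y hy, hadd, hF x hx, hF y hy]
  have hcomm : ∀ x ∈ K, ∀ y ∈ K, x * y = y * x := fun x hx y hy => by
    have h1 := hsm x hx y hy
    rw [← hc.add _ (hsq x hx) _ (hsq y hy), hc.eq_iff (hsq _ (mul_mem hx hy))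
      (mul_mem (hsq x hx) (hsq y hy)), mem_bot, inv_mul_eq_one] at h1
    have h2 : y * (x * y) = x * (y * y) :=
      calc y * (x * y) = x⁻¹ * (x * y * (x * y)) := by rw [mul_assoc x y, inv_mul_cancel_left]
        _ = x⁻¹ * (x * x * (y * y)) := by rw [h1]
        _ = x * (y * y) := by rw [mul_assoc x x, inv_mul_cancel_left]
    rw [← mul_assoc, ← mul_assoc] at h2
    exact (mul_right_cancel h2).symm
  refine ⟨hcomm, inferInstance, hJK, fun x hx y hy => hsm x hx y hy, fun g k hk => ?_, fun v => ?_,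
    fun k hk => ?_⟩
  · show ℓ (g * k * g⁻¹ * (g * k * g⁻¹)) = _
    rw [sq_conj, hc.conj g _ (hsq k hk)]
  · obtain ⟨w, hw⟩ := hsurj v
    obtain ⟨k, hk, rfl⟩ := hl.surj w
    exact ⟨k, hk, by rw [← hF k hk]; exact hw⟩
  · rw [← hF k hk, ← hl.ker k hk]
    exact ⟨fun e => by_contra fun h0 => hne0 _ h0 e, fun e => by rw [e, hF0]⟩

/-- A homocyclic radical of order `64` is impossible. -/
theorem core (h : Setup Q) (hθ : Frame θ Q) (hc : Coords θ W ⊥ ℓ) (hWQ : W ≤ Q)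
    (hsq : ∀ q ∈ Q, q * q ∈ W) (hcard : Nat.card Q = 64) : False := by
  haveI := hc.normal
  haveI := h.normal
  have hW8 : Nat.card W = 8 := by rw [hc.card_eq, card_bot]
  obtain ⟨hab, hv⟩ := squares_coords h hθ hc hWQ Q W le_rfl hWQ le_rfl (fun x hx => hc.sq_eq_one hx)
    (fun x hx k hk => hc.commute_base hθ hk hx) hsq (fun q hq k hk => comm_mem hsq hq hk)
    (by rw [hcard, hW8])
  set v : G → V3 := fun k => ℓ (k * k) with hvdef
  obtain ⟨f, hf, hu, hxQ, huQ⟩ := exists_f hθ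
  obtain ⟨r, hr, hr3⟩ := exists_r h hθ
  set x := f * f * (f * f) with hx
  have hvx : v x = 0 ∨ v x = d := vec_facts.1 _ (by
    rw [← hf, ← hv.conj f x hxQ, show f * x * f⁻¹ = x by rw [hx]; group])
  obtain ⟨k0, hk0, hvk0⟩ : ∃ k0 ∈ Q, v k0 + mT1 *ᵥ v k0 + v x = 0 := by
    rcases hvx with e | e
    · exact ⟨1, one_mem Q, by rw [hv.map_one, e]; simp⟩
    · obtain ⟨k, hk⟩ := vec_facts.2.2.2.1
      obtain ⟨k0, hk0, rfl⟩ := hv.surj k
      exact ⟨k0, hk0, by rw [add_comm (v k0), hk, e, RankFourL32.add_self]⟩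
  set e1 := k0 * (f * f) with he1
  have hθ1 : (θ e1 : M3) = mT1 := by rw [he1, map_mul, Units.val_mul, hθ.mem_iff.1 hk0, hu, one_mul]
  have hsQ1 : e1 * e1 = k0 * (f * f * k0 * (f * f)⁻¹) * x := by rw [he1, hx]; simp [mul_assoc]
  have hcQ : ∀ g, ∀ a ∈ Q, g * a * g⁻¹ ∈ Q := fun g a ha => h.normal.conj_mem a ha g
  have hw1 : e1 * e1 ∈ W := by
    have hm := mul_mem (mul_mem hk0 (hcQ (f * f) k0 hk0)) hxQ
    refine hsQ1 ▸ (hv.ker _ hm).1 ?_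
    rw [hv.add _ (mul_mem hk0 (hcQ (f * f) k0 hk0)) _ hxQ, hv.add _ hk0 _ (hcQ (f * f) k0 hk0),
      hv.conj _ k0 hk0, hu, hvk0]
  obtain ⟨hθ2, hθ3, hr4, hkQ, hn1, hn2, hn12⟩ := triple hθ hθ1 hr hr3
  set e2 := r * e1 * r⁻¹ with he2
  set e3 := r * e2 * r⁻¹ with he3
  have hw2 : e2 * e2 ∈ W := by rw [he2, sq_conj]; exact hc.normal.conj_mem _ hw1 r
  have hw3 : e3 * e3 ∈ W := by rw [he3, sq_conj]; exact hc.normal.conj_mem _ hw2 r
  set k := e1 * e2 * e3⁻¹ with hk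
  set γ := e1 * e2 * e1⁻¹ * e2⁻¹ with hγ
  have hγQ : γ ∈ Q := hθ.mem_iff.2 (by
    have h12 : mT1 * mT2 * mT1 * mT2 = 1 := by decide +kernel
    have i1 : (θ e1⁻¹ : M3) = mT1 := by
      calc (θ e1⁻¹ : M3) = (θ e1⁻¹ : M3) * (mT1 * mT1) := by rw [pow_facts.2.2.2.2.2.2.2.1, mul_one]
        _ = mT1 := by rw [← mul_assoc, ← hθ1, Frame.mul_inv, one_mul, hθ1]
    have i2 : (θ e2⁻¹ : M3) = mT2 := by
      calc (θ e2⁻¹ : M3) = (θ e2⁻¹ : M3) * (mT2 * mT2) := by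
            rw [show mT2 * mT2 = 1 by decide +kernel, mul_one]
        _ = mT2 := by rw [← mul_assoc, ← hθ2, Frame.mul_inv, one_mul, hθ2]
    rw [hγ, map_mul, map_mul, map_mul, Units.val_mul, Units.val_mul, Units.val_mul, hθ1, hθ2, i1, i2,
      h12])
  have I1 : e1 * γ * e1⁻¹ * γ = e1 * e1 * (e2 * (e1 * e1)⁻¹ * e2⁻¹) := by rw [hγ]; group
  have I2 : γ * (e2 * γ * e2⁻¹) = e1 * (e2 * e2) * e1⁻¹ * (e2 * e2)⁻¹ := by rw [hγ]; group
  have I3 : γ * (e2 * (e1 * e1) * e2⁻¹) * (e2 * e2) = k * (e3 * k * e3⁻¹) * (e3 * e3) := by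
    rw [hγ, hk]; group
  have hre : r * e1 * r⁻¹ = e2 ∧ r * e2 * r⁻¹ = e3 := ⟨rfl, rfl⟩
  have I4 : r * γ * r⁻¹ = e2 * k⁻¹ * e2⁻¹ * γ⁻¹ * k := by
    have : r * γ * r⁻¹ = e2 * e3 * e2⁻¹ * e3⁻¹ := by rw [hγ, he3, he2]; group
    rw [this, hγ, hk]; group
  have I5 : r * k * r⁻¹ = e2 * k⁻¹ * e2⁻¹ * γ⁻¹ * (e1 * (e2 * e2) * e1⁻¹) := by
    have : r * k * r⁻¹ = (r * e1 * r⁻¹) * (r * e2 * r⁻¹) * (r * e3 * r⁻¹)⁻¹ := by rw [hk]; group
    rw [this, hre.1, hre.2, hr4, hγ, hk]; group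
  -- first stage
  have hW0 : ∀ w ∈ W, v w = 0 := fun w hw => (hv.ker w (hWQ hw)).2 hw
  have hW0' : ∀ g, ∀ w ∈ W, v (g * w * g⁻¹) = 0 := fun g w hw => hW0 _ (hc.normal.conj_mem w hw g)
  have J1 : mT1 *ᵥ v γ = v γ := by
    have := congrArg v I1
    rw [hv.add _ (hcQ e1 γ hγQ) _ hγQ, hv.conj e1 γ hγQ, hθ1,
      hW0 _ (mul_mem hw1 (hc.normal.conj_mem _ (inv_mem hw1) e2))] at this
    rw [← add_zero (mT1 *ᵥ v γ), ← RankFourL32.add_self (v γ), ← add_assoc, this, zero_add]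
  have J2 : mT2 *ᵥ v γ = v γ := by
    have := congrArg v I2
    rw [hv.add _ hγQ _ (hcQ e2 γ hγQ), hv.conj e2 γ hγQ, hθ2,
      hW0 _ (mul_mem (hc.normal.conj_mem _ hw2 e1) (inv_mem hw2))] at this
    rw [← add_zero (mT2 *ᵥ v γ), ← RankFourL32.add_self (v γ), ← add_assoc,
      add_comm (mT2 *ᵥ v γ), this, zero_add]
  have J3 : v γ = v k + mT3 *ᵥ v k := by
    have := congrArg v I3
    rw [hv.add _ (mul_mem hγQ (hWQ (hc.normal.conj_mem _ hw1 e2))) _ (hWQ hw2),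
      hv.add _ hγQ _ (hWQ (hc.normal.conj_mem _ hw1 e2)), hW0' e2 _ hw1, hW0 _ hw2,
      hv.add _ (mul_mem hkQ (hcQ e3 k hkQ)) _ (hWQ hw3), hv.add _ hkQ _ (hcQ e3 k hkQ),
      hv.conj e3 k hkQ, hθ3, hW0 _ hw3] at this
    simpa using this
  have hkie : e2 * k⁻¹ * e2⁻¹ ∈ Q := hcQ e2 _ (inv_mem hkQ)
  have J4 : mR *ᵥ v γ = mT2 *ᵥ v k + v γ + v k := by
    have := congrArg v I4
    rw [hv.conj r γ hγQ, hr, hv.add _ (mul_mem hkie (inv_mem hγQ)) _ hkQ,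
      hv.add _ hkie _ (inv_mem hγQ), hv.conj e2 _ (inv_mem hkQ), hv.map_inv hkQ, hθ2,
      hv.map_inv hγQ] at this
    exact this
  have J5 : mR *ᵥ v k = mT2 *ᵥ v k + v γ := by
    have := congrArg v I5
    rw [hv.conj r k hkQ, hr, hv.add _ (mul_mem hkie (inv_mem hγQ)) _ (hWQ (hc.normal.conj_mem _ hw2 e1)),
      hv.add _ hkie _ (inv_mem hγQ), hv.conj e2 _ (inv_mem hkQ), hv.map_inv hkQ, hθ2,
      hv.map_inv hγQ, hW0' e1 _ hw2, add_zero] at this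
    exact this
  obtain ⟨hg0, hy⟩ := stage_one _ _ J1 J2 J3 J4 J5
  have hγW : γ ∈ W := (hv.ker γ hγQ).1 hg0
  -- the action on the preimage of the centre
  have hfix : ∀ (e : G) (T : M3), (θ e : M3) = T → e * e ∈ Q → T *ᵥ d = d →
      (∀ w : V3, T *ᵥ w + w = 0 ∨ T *ᵥ w + w = d) → (∃ w : V3, T *ᵥ w + w = d) →
      ∀ a ∈ Q, (v a = 0 ∨ v a = d) →
        e * a * e⁻¹ * a⁻¹ ∈ W ∧ (ℓ (e * a * e⁻¹ * a⁻¹) = 0 ∨ ℓ (e * a * e⁻¹ * a⁻¹) = d) := by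
    intro e T hT hee hTd hTw hex a ha hva
    have hW' : ∀ w ∈ W, e * w * e⁻¹ * w⁻¹ ∈ W ∧
        (ℓ (e * w * e⁻¹ * w⁻¹) = 0 ∨ ℓ (e * w * e⁻¹ * w⁻¹) = d) := fun w hw => by
      obtain ⟨h1, h2⟩ := hc.comm e hw
      exact ⟨h1, by rw [h2, hT]; exact hTw _⟩
    rcases hva with h0 | h0
    · exact hW' a ((hv.ker a ha).1 h0)
    obtain ⟨y, hy⟩ := hex
    obtain ⟨c, hcQ', hvc⟩ := hv.surj y
    set a0 := c⁻¹ * (e * c * e⁻¹) with ha0
    have ha0Q : a0 ∈ Q := mul_mem (inv_mem hcQ') (hcQ e c hcQ')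
    have hva0 : v a0 = d := by
      rw [ha0, hv.add _ (inv_mem hcQ') _ (hcQ e c hcQ'), hv.map_inv hcQ', hv.conj e c hcQ', hT, add_comm]
      show T *ᵥ v c + v c = d
      rw [hvc, hy]
    have hee' : e * (e * c * e⁻¹) * e⁻¹ = c := by
      rw [show e * (e * c * e⁻¹) * e⁻¹ = e * e * c * (e * e)⁻¹ by group, hab _ hee c hcQ',
        mul_inv_cancel_right]
    have hinv : e * a0 * e⁻¹ = a0⁻¹ := by
      rw [ha0, show e * (c⁻¹ * (e * c * e⁻¹)) * e⁻¹ = (e * c * e⁻¹)⁻¹ * (e * (e * c * e⁻¹) * e⁻¹) by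
        group, hee']
      group
    have hwW : a0⁻¹ * a ∈ W := (hv.eq_iff ha0Q ha).1 (hva0.trans h0.symm)
    set w := a0⁻¹ * a with hw
    have e' : e * a * e⁻¹ * a⁻¹ = (a0 * a0)⁻¹ * (e * w * e⁻¹ * w⁻¹) := by
      rw [show a = a0 * w by rw [hw]; group,
        show e * (a0 * w) * e⁻¹ * (a0 * w)⁻¹ = e * a0 * e⁻¹ * (e * w * e⁻¹ * w⁻¹) * a0⁻¹ by group,
        hinv, mul_assoc, hab _ (hWQ (hW' w hwW).1) _ (inv_mem ha0Q)]
      group
    obtain ⟨h1, h2⟩ := hW' w hwW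
    have h0W : (a0 * a0)⁻¹ ∈ W := inv_mem (hsq a0 ha0Q)
    refine ⟨e' ▸ mul_mem h0W h1, ?_⟩
    rw [e', hc.add _ h0W _ h1, hc.map_inv (hsq a0 ha0Q), show ℓ (a0 * a0) = d from hva0]
    rcases h2 with h2 | h2 <;> rw [h2] <;> simp [RankFourL32.add_self]
  -- second stage
  set c := ℓ (e1 * e1) with hcdef
  have hc2 : ℓ (e2 * e2) = mR *ᵥ c := by rw [he2, sq_conj, hc.conj r _ hw1, hr]
  have hc3 : ℓ (e3 * e3) = mR *ᵥ (mR *ᵥ c) := by rw [he3, sq_conj, hc.conj r _ hw2, hr, hc2]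
  have K0 : mT1 *ᵥ c = c := by
    rw [hcdef, ← hθ1, ← hc.conj e1 _ hw1]; congr 1; group
  have K1 : mT1 *ᵥ ℓ γ + ℓ γ = mT2 *ᵥ c + c := by
    have := congrArg ℓ I1
    rw [hc.add _ (hc.normal.conj_mem γ hγW e1) _ hγW, hc.conj e1 γ hγW, hθ1,
      hc.add _ hw1 _ (hc.normal.conj_mem _ (inv_mem hw1) e2), hc.conj e2 _ (inv_mem hw1),
      hc.map_inv hw1, hθ2, add_comm c] at this
    exact this
  have K2 : mT2 *ᵥ ℓ γ + ℓ γ = mT1 *ᵥ (mR *ᵥ c) + mR *ᵥ c := by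
    have := congrArg ℓ I2
    rw [hc.add _ hγW _ (hc.normal.conj_mem γ hγW e2), hc.conj e2 γ hγW, hθ2,
      hc.add _ (hc.normal.conj_mem _ hw2 e1) _ (inv_mem hw2), hc.conj e1 _ hw2,
      hc.map_inv hw2, hθ1, hc2, add_comm (ℓ γ)] at this
    exact this
  obtain ⟨hk3, hk3d⟩ := hfix e3 mT3 hθ3 (hWQ hw3) vec_facts.2.2.1.2.2 (fun w => (vec_facts.2.1 w).2.2)
    vec_facts.2.2.2.2.2 k hkQ hy
  have K3 : ℓ γ + mT2 *ᵥ c + mR *ᵥ c + mR *ᵥ (mR *ᵥ c) = 0 ∨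
      ℓ γ + mT2 *ᵥ c + mR *ᵥ c + mR *ᵥ (mR *ᵥ c) = d := by
    have hke : k * (e3 * k * e3⁻¹) = k * k * (e3 * k * e3⁻¹ * k⁻¹) := by
      rw [hab (e3 * k * e3⁻¹) (hcQ e3 k hkQ) k⁻¹ (inv_mem hkQ)]; group
    have := congrArg ℓ I3
    rw [hc.add _ (mul_mem hγW (hc.normal.conj_mem _ hw1 e2)) _ hw2,
      hc.add _ hγW _ (hc.normal.conj_mem _ hw1 e2), hc.conj e2 _ hw1, hθ2, hc2, hke,
      hc.add _ (mul_mem (hsq k hkQ) hk3) _ hw3, hc.add _ (hsq k hkQ) _ hk3, hc3] at this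
    rw [this, add_assoc, RankFourL32.add_self, add_zero]
    rcases hy with e | e <;> rcases hk3d with e' | e' <;>
      rw [show ℓ (k * k) = _ from e, e'] <;> simp [RankFourL32.add_self]
  obtain ⟨hcd, hγd⟩ := stage_two c (ℓ γ) K0 K1 K2 K3
  -- the section
  have hs1 : e1 * e1 ∈ pre hc := ⟨hw1, hcd⟩
  have hs2 : e2 * e2 ∈ pre hc := ⟨hw2, by
    rw [hc2]; rcases hcd with e | e <;> rw [e]
    · left; simp
    · right; exact pow_facts.2.2.2.2.2.2.2.2.1⟩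
  refine no_five h (pre hv) (pre hc) e1 e2 (fun w hw => ⟨hWQ hw.1, Or.inl (hW0 w hw.1)⟩)
    (fun a ha => ha.1) hn1 hn2 hn12 (fun a ha w hw => hab a ha.1 w (hWQ hw.1))
    (fun w hw => ?_) (fun w hw => ?_) (fun a ha => ⟨hsq a ha.1, ha.2⟩)
    (fun a ha b hb => by
      rw [hab a ha.1 b hb.1, show b * a * a⁻¹ * b⁻¹ = 1 by group]; exact one_mem _)
    (fun a ha => hfix e1 mT1 hθ1 (hWQ hw1) vec_facts.2.2.1.1 (fun w => (vec_facts.2.1 w).1)
      vec_facts.2.2.2.1 a ha.1 ha.2)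
    (fun a ha => hfix e2 mT2 hθ2 (hWQ hw2) vec_facts.2.2.1.2.1 (fun w => (vec_facts.2.1 w).2.1)
      vec_facts.2.2.2.2.1 a ha.1 ha.2)
    hs1 hs2 ⟨hγW, hγd⟩ (by rw [card_pre hc, card_pre hv, card_bot, hW8])
  all_goals
    refine mul_inv_eq_iff_eq_mul.1 (mul_inv_eq_one.1 (mem_bot.1 ?_))
    obtain ⟨h1, h2⟩ := hc.comm (A := W) _ hw.1
    refine (hc.ker _ h1).1 ?_
    rw [h2]
    rcases hw.2 with e | e <;> rw [e]
  · simp
  · rw [hθ1, vec_facts.2.2.1.1, RankFourL32.add_self]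
  · simp
  · rw [hθ2, vec_facts.2.2.1.2.1, RankFourL32.add_self]

end CfsgLib.RankFourL32
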