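import Cfsg.Agent.Lib.RankFourL32.Abelian
import Cfsg.Agent.Lib.PGroup.Basic

/-!
The radical of an extension by `GL₃(2)` of sectional rank at most four.
-/

set_option autoImplicit false
set_option linter.unusedSectionVars false
set_option linter.style.haveILetI false

open scoped Classical

namespace CfsgLib.RankFourL32

open Subgroup Matrix RankFourA5

variable {G : Type*} [Group G] [Finite G] {Q P W A : Subgroup G} {θ : G →* GL (Fin 3) (ZMod 2)}
  {v : G → V3}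

theorem Frame.comm_lift_mem (hθ : Frame θ Q) {e1 e2 : G} (h1 : (θ e1 : M3) = mT1)
    (h2 : (θ e2 : M3) = mT2) : e1 * e2 * e1⁻¹ * e2⁻¹ ∈ Q := by
  have hT := list_facts
  have i1 : (θ e1⁻¹ : M3) = mT1 := by
    calc (θ e1⁻¹ : M3) = (θ e1⁻¹ : M3) * (mT1 * mT1) := by rw [(hT.1 mT1 (by simp)).2, mul_one]
      _ = mT1 := by rw [← mul_assoc, ← h1, Frame.mul_inv, one_mul, h1]
  have i2 : (θ e2⁻¹ : M3) = mT2 := by
    calc (θ e2⁻¹ : M3) = (θ e2⁻¹ : M3) * (mT2 * mT2) := by rw [(hT.1 mT2 (by simp)).2, mul_one]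
      _ = mT2 := by rw [← mul_assoc, ← h2, Frame.mul_inv, one_mul, h2]
  refine hθ.mem_iff.2 ?_
  rw [map_mul, map_mul, map_mul, Units.val_mul, Units.val_mul, Units.val_mul, h1, h2, i1, i2, mul_assoc]
  exact hT.2 mT1 (by simp) mT2 (by simp)

theorem card_inf_mul_map (N S : Subgroup G) [N.Normal] :
    Nat.card S = Nat.card (S ⊓ N : Subgroup G) * Nat.card (S.map (QuotientGroup.mk' N)) := by
  set f := (QuotientGroup.mk' N).comp S.subtype with hf
  have hr : f.range = S.map (QuotientGroup.mk' N) := by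
    rw [hf, MonoidHom.range_comp, range_subtype]
  have hk : f.ker = (S ⊓ N).subgroupOf S := by
    ext x
    rw [MonoidHom.mem_ker, mem_subgroupOf, mem_inf]
    exact ⟨fun e => ⟨x.2, (RankFourA5.mk_eq_one (N := N)).1 e⟩, fun e => RankFourA5.mk_eq_one.2 e.2⟩
  rw [card_eq_card_quotient_mul_card_subgroup f.ker,
    Nat.card_congr (QuotientGroup.quotientKerEquivRange f).toEquiv, hr, hk,
    Nat.card_congr (subgroupOfEquivOfLe (inf_le_left : S ⊓ N ≤ S)).toEquiv, mul_comm]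

/-- The second step of the cyclic case. -/
theorem cyclic_false (h : Setup Q) (hθ : Frame θ Q) (hv : Coords θ A W v) (hAQ : A ≤ Q)
    (hab : ∀ a ∈ Q, ∀ b ∈ Q, a * b = b * a) (hA2 : ∀ a ∈ A, a * a = 1) (hW2 : Nat.card W = 2)
    (hWc : ∀ g : G, ∀ w ∈ W, g * w = w * g) {z : G} (hz : z ∈ Q) (hzc : ∀ g : G, g * z = z * g)
    (hzz : z * z ∈ W) (hz1 : z * z ≠ 1) (hcases : ∀ q ∈ Q, q ∈ A ∨ z⁻¹ * q ∈ A)
    (hcard : Nat.card Q = 32) : False := by
  haveI := hv.normal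
  haveI := h.normal
  have hzA : z ∉ A := fun m => hz1 (hA2 z m)
  have hAinv : ∀ a ∈ A, a⁻¹ = a := fun a ha => inv_eq_of_mul_eq_one_right (hA2 a ha)
  have hfix : ∀ (e : G) (T : M3), (θ e : M3) = T → e * e ∈ Q → (∃ w : V3, T *ᵥ w + w = d) →
      ∀ x ∈ A, (v x = 0 ∨ v x = d) → Commute e x := by
    intro e T hT hee hex x hx hvx
    rcases hvx with h0 | h0
    · exact hWc e x ((hv.ker x hx).1 h0)
    obtain ⟨y, hy⟩ := hex
    obtain ⟨k, hk, hvk⟩ := hv.surj y
    set x0 := k⁻¹ * (e * k * e⁻¹) with hx0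
    have hek := hv.normal.conj_mem k hk e
    have hx0A : x0 ∈ A := mul_mem (inv_mem hk) hek
    have hvx0 : v x0 = d := by
      rw [hx0, hv.add _ (inv_mem hk) _ hek, hv.map_inv hk, hv.conj e k hk, hT, add_comm, hvk, hy]
    have hee' : e * (e * k * e⁻¹) * e⁻¹ = k := by
      rw [show e * (e * k * e⁻¹) * e⁻¹ = e * e * k * (e * e)⁻¹ by group, hab _ hee k (hAQ hk),
        mul_inv_cancel_right]
    have hinv : e * x0 * e⁻¹ = x0⁻¹ := by
      rw [hx0, show e * (k⁻¹ * (e * k * e⁻¹)) * e⁻¹ = (e * k * e⁻¹)⁻¹ * (e * (e * k * e⁻¹) * e⁻¹) by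
        group, hee']
      group
    rw [hAinv x0 hx0A] at hinv
    rw [show x = x0 * (x0⁻¹ * x) by group]
    exact (show Commute e x0 from mul_inv_eq_iff_eq_mul.1 hinv).mul_right
      (hWc e _ ((hv.eq_iff hx0A hx).1 (hvx0.trans h0.symm)))
  have hdec : ∀ q ∈ Q, ∃ x ∈ A, x = q ∨ x = z⁻¹ * q := fun q hq => by
    rcases hcases q hq with e | e
    · exact ⟨q, e, Or.inl rfl⟩
    · exact ⟨_, e, Or.inr rfl⟩
  have hgood : ∀ (e : G) (T : M3), (θ e : M3) = T → e * e ∈ Q → (∃ w : V3, T *ᵥ w + w = d) →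
      ∀ q, ∀ x ∈ A, (x = q ∨ x = z⁻¹ * q) → (v x = 0 ∨ v x = d) → Commute e q := by
    intro e T hT hee hex q x hx hxq hvx
    have h1 := hfix e T hT hee hex x hx hvx
    rcases hxq with rfl | rfl
    · exact h1
    · simpa using (show Commute e z from hzc e).mul_right h1
  obtain ⟨f, hf, hu, hxQ, huQ⟩ := exists_f hθ
  obtain ⟨r, hr, hr3⟩ := exists_r h hθ
  obtain ⟨hθ2, hθ3, -, hkQ, hn1, hn2, hn12⟩ := triple hθ hu hr hr3
  set e1 := f * f with he1
  set e2 := r * e1 * r⁻¹ with he2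
  set e3 := r * e2 * r⁻¹ with he3
  have hs2 : e2 * e2 = r * (e1 * e1) * r⁻¹ := sq_conj r e1
  have hs3 : e3 * e3 = r * (e2 * e2) * r⁻¹ := sq_conj r e2
  have hs2Q : e2 * e2 ∈ Q := hs2 ▸ h.normal.conj_mem _ hxQ r
  have hs3Q : e3 * e3 ∈ Q := hs3 ▸ h.normal.conj_mem _ hs2Q r
  -- the square of the lift
  obtain ⟨x, hx, hxs⟩ := hdec _ hxQ
  have hcf : Commute f (e1 * e1) := by
    rw [he1]; exact ((Commute.refl f).mul_right (Commute.refl f)).mul_right
      ((Commute.refl f).mul_right (Commute.refl f))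
  have hfx : Commute f x := by
    rcases hxs with rfl | rfl
    · exact hcf
    · exact (show Commute f z from hzc f).inv_right.mul_right hcf
  have hvx : v x = 0 ∨ v x = d := vec_facts.1 _ (by
    rw [← hf, ← hv.conj f x hx, hfx.eq, mul_inv_cancel_right])
  have hx2 : (r * x * r⁻¹ = e2 * e2 ∨ r * x * r⁻¹ = z⁻¹ * (e2 * e2)) ∧
      (v (r * x * r⁻¹) = 0 ∨ v (r * x * r⁻¹) = d) := by
    refine ⟨?_, ?_⟩
    · rw [hs2]
      rcases hxs with rfl | rfl
      · exact Or.inl rfl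
      · refine Or.inr ?_
        rw [← mul_assoc r z⁻¹, (show Commute r z from hzc r).inv_right.eq]
        group
    · rw [hv.conj r x hx, hr]
      rcases hvx with e | e <;> rw [e]
      · left; simp
      · right; exact pow_facts.2.2.2.2.2.2.2.2.1
  have c21 : Commute e2 (e1 * e1) :=
    hgood e2 mT2 hθ2 hs2Q vec_facts.2.2.2.2.1 _ x hx hxs hvx
  have c12 : Commute e1 (e2 * e2) :=
    hgood e1 mT1 hu hxQ vec_facts.2.2.2.1 _ _ (hv.normal.conj_mem x hx r) hx2.1 hx2.2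
  -- the commutator
  set γ := e1 * e2 * e1⁻¹ * e2⁻¹ with hγ
  have hγQ : γ ∈ Q := hθ.comm_lift_mem hu hθ2
  have I1 : e1 * γ * e1⁻¹ = γ⁻¹ := by
    have e0 : e1 * γ * e1⁻¹ * γ = e1 * e1 * (e2 * (e1 * e1)⁻¹ * e2⁻¹) := by rw [hγ]; group
    rw [c21.inv_right.eq, mul_inv_cancel_right, mul_inv_cancel] at e0
    exact eq_inv_of_mul_eq_one_left e0
  have I2 : e2 * γ * e2⁻¹ = γ⁻¹ := by
    have e0 : γ * (e2 * γ * e2⁻¹) = e1 * (e2 * e2) * e1⁻¹ * (e2 * e2)⁻¹ := by rw [hγ]; group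
    rw [c12.eq, mul_inv_cancel_right, mul_inv_cancel] at e0
    exact eq_inv_of_mul_eq_one_right e0
  obtain ⟨y, hy, hyγ⟩ := hdec γ hγQ
  have hyfix : ∀ e : G, e * γ * e⁻¹ = γ⁻¹ → v (e * y * e⁻¹) = v y := by
    intro e hi
    rcases hyγ with rfl | rfl
    · rw [hi, hAinv _ hy]
    · have e0 : e * (z⁻¹ * γ) * e⁻¹ = (z * z)⁻¹ * (z⁻¹ * γ)⁻¹ := by
        rw [← mul_assoc e z⁻¹, (show Commute e z from hzc e).inv_right.eq,
          show z⁻¹ * e * γ * e⁻¹ = z⁻¹ * (e * γ * e⁻¹) by group, hi,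
          (show Commute γ⁻¹ z⁻¹ from ((show Commute γ z from hzc γ).inv_left).inv_right).symm.eq]
        have hcz : (z⁻¹ * γ)⁻¹ = z * γ⁻¹ := by
          rw [_root_.mul_inv_rev, inv_inv]; exact (hzc γ⁻¹)
        rw [hcz, show (z * z)⁻¹ * (z * γ⁻¹) = z⁻¹ * γ⁻¹ by group]
        exact ((show Commute γ⁻¹ z⁻¹ from ((show Commute γ z from hzc γ).inv_left).inv_right)).eq
      have hwA : (z * z)⁻¹ ∈ A := hv.le (inv_mem hzz)
      rw [e0, hv.add _ hwA _ (inv_mem hy), (hv.ker _ hwA).2 (inv_mem hzz), hv.map_inv hy, zero_add]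
  have hvy : v y = 0 ∨ v y = d := fixed_both _
    (by have := hyfix e1 I1; rwa [hv.conj e1 y hy, hu] at this)
    (by have := hyfix e2 I2; rwa [hv.conj e2 y hy, hθ2] at this)
  have cγ : Commute e1 γ := hgood e1 mT1 hu hxQ vec_facts.2.2.2.1 γ y hy hyγ hvy
  have hγ2 : γ * γ = 1 := by
    rw [cγ.eq, mul_inv_cancel_right] at I1
    exact mul_eq_one_iff_eq_inv.2 I1
  obtain rfl : y = γ := hyγ.resolve_right fun e => by
    refine hz1 ?_
    have e' : γ = z * y := by rw [e]; group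
    rw [e', (show Commute y z from hzc y).mul_mul_mul_comm, hA2 y hy, mul_one] at hγ2
    exact hγ2
  -- the square lies in `A`
  have hcardA : Nat.card A = 16 := by rw [hv.card_eq, hW2]
  have hidx := fun {a b : G} (ha : a ∈ Q) (hb : b ∈ Q) =>
    index_two_mul hAQ (a := a) (b := b) (by rw [hcard, hcardA]) ha hb
  have hcA : ∀ g : G, ∀ q : G, (g * q * g⁻¹ ∈ A ↔ q ∈ A) := fun g q =>
    ⟨fun m => by simpa [mul_assoc] using hv.normal.conj_mem _ m g⁻¹, fun m => hv.normal.conj_mem q m g⟩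
  have hsA : e1 * e1 ∈ A := by
    set k := e1 * e2 * e3⁻¹ with hk
    have hkc := h.normal.conj_mem k hkQ e3
    have I3 : γ * (e2 * (e1 * e1) * e2⁻¹) * (e2 * e2) = k * (e3 * k * e3⁻¹) * (e3 * e3) := by
      rw [hγ, hk]; group
    rw [c21.eq, mul_inv_cancel_right] at I3
    have hiff : γ * (e1 * e1) * (e2 * e2) ∈ A := by
      refine (hidx (mul_mem hγQ hxQ) hs2Q).2 ?_
      rw [hidx hγQ hxQ, hs2, hcA]
      exact ⟨fun m => m.1 hy, fun m => iff_of_true hy m⟩
    rw [I3, hidx (mul_mem hkQ hkc) hs3Q, hidx hkQ hkc, hcA, hs3, hcA, hs2, hcA] at hiff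
    exact hiff.1 Iff.rfl
  have hxs' : x = e1 * e1 := hxs.resolve_right fun e => hzA (by
    have := mul_mem hsA (inv_mem hx)
    rw [e, _root_.mul_inv_rev, inv_inv, mul_inv_cancel_left] at this
    exact this)
  -- the section
  have hWpre : W ≤ pre hv := fun w hw => ⟨hv.le hw, Or.inl ((hv.ker w (hv.le hw)).2 hw)⟩
  have hs2A : e2 * e2 ∈ pre hv := by
    rw [hs2, ← hxs']
    exact ⟨hv.normal.conj_mem x hx r, hx2.2⟩
  refine no_five h Q (pre hv) e1 e2 (fun a ha => hAQ ha.1) le_rfl hn1 hn2 hn12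
    (fun a ha b hb => hab a ha b (hAQ hb.1))
    (fun a ha => hfix e1 mT1 hu hxQ vec_facts.2.2.2.1 a ha.1 ha.2)
    (fun a ha => hfix e2 mT2 hθ2 hs2Q vec_facts.2.2.2.2.1 a ha.1 ha.2)
    (fun q hq => ?_) (fun a ha b hb => by rw [hab a ha b hb]; simp) ?_ ?_
    (hxs' ▸ ⟨hx, hvx⟩) hs2A ⟨hy, hvy⟩ (by rw [card_pre hv, hW2, hcard])
  · obtain ⟨a, ha, rfl | rfl⟩ := hdec q hq
    · rw [hA2 _ ha]; exact one_mem _
    · refine hWpre ?_
      have e : q * q = z * z := by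
        conv_lhs => rw [show q = z * (z⁻¹ * q) by group]
        rw [(show Commute (z⁻¹ * q) z from hzc (z⁻¹ * q)).mul_mul_mul_comm, hA2 _ ha, mul_one]
      rw [e]; exact hzz
  all_goals
    intro q hq
    obtain ⟨a, ha, e⟩ := hdec q hq
  · have e' : e1 * q * e1⁻¹ * q⁻¹ = e1 * a * e1⁻¹ * a⁻¹ := by
      rcases e with rfl | rfl
      · rfl
      · rw [← mul_assoc e1 z⁻¹, (show Commute e1 z from hzc e1).inv_right.eq,
          show z⁻¹ * e1 * q * e1⁻¹ * (z⁻¹ * q)⁻¹ = z⁻¹ * (e1 * q * e1⁻¹ * q⁻¹) * z by group,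
          mul_assoc z⁻¹, hzc (e1 * q * e1⁻¹ * q⁻¹), inv_mul_cancel_left]
    refine ⟨e' ▸ (hv.comm e1 ha).1, ?_⟩
    rw [e', (hv.comm e1 ha).2, hu]
    exact (vec_facts.2.1 _).1
  · have e' : e2 * q * e2⁻¹ * q⁻¹ = e2 * a * e2⁻¹ * a⁻¹ := by
      rcases e with rfl | rfl
      · rfl
      · rw [← mul_assoc e2 z⁻¹, (show Commute e2 z from hzc e2).inv_right.eq,
          show z⁻¹ * e2 * q * e2⁻¹ * (z⁻¹ * q)⁻¹ = z⁻¹ * (e2 * q * e2⁻¹ * q⁻¹) * z by group,
          mul_assoc z⁻¹, hzc (e2 * q * e2⁻¹ * q⁻¹), inv_mul_cancel_left]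
    refine ⟨e' ▸ (hv.comm e2 ha).1, ?_⟩
    rw [e', (hv.comm e2 ha).2, hθ2]
    exact (vec_facts.2.1 _).2.1

/-- A minimal normal subgroup inside `Q`. -/
theorem minimal_two (h : Setup Q) [hWn : W.Normal] (hWQ : W ≤ Q) (hW : W ≠ ⊥)
    (hmin : ∀ U : Subgroup G, U.Normal → U ≤ W → U = ⊥ ∨ U = W) :
    Nat.card W = 2 ∨ Mod Q W := by
  haveI : Fact (Nat.Prime 2) := ⟨Nat.prime_two⟩
  haveI := h.normal
  have hcQ : ∀ q ∈ Q, ∀ w ∈ W, q * w = w * q := by
    have h1 := CfsgLib.PGroup.inf_center_ne_bot h.pgroup (W.subgroupOf Q) (fun e => hW (by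
      rw [subgroupOf_eq_bot, disjoint_iff, inf_eq_left.2 hWQ] at e
      exact e))
    rcases hmin (W ⊓ centralizer (Q : Set G)) inferInstance inf_le_left with e | e
    · refine absurd (eq_bot_iff.2 fun w hw => ?_) h1
      rw [mem_bot]
      have h2 : (w : G) ∈ W ⊓ centralizer (Q : Set G) := ⟨hw.1, mem_centralizer_iff.2 fun q hq =>
        congrArg Subtype.val (mem_center_iff.1 hw.2 ⟨q, hq⟩)⟩
      rw [e, mem_bot] at h2
      exact Subtype.ext h2
    · intro q hq w hw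
      exact mem_centralizer_iff.1 (e.symm ▸ hw : w ∈ W ⊓ centralizer (Q : Set G)).2 q hq
  have hsq : ∀ w ∈ W, w * w = 1 := by
    let W2 := sqKer W fun a ha b hb => hcQ a (hWQ ha) b hb
    rcases hmin W2 (sqKer_normal hWn _) (fun w hw => hw.1) with e | e
    · exfalso
      obtain ⟨k, hk⟩ := IsPGroup.iff_card.1 (h.pgroup.to_le hWQ)
      have hk0 : k ≠ 0 := fun h0 => hW (card_eq_one.1 (by rw [hk, h0, pow_zero]))
      obtain ⟨w, hw⟩ := exists_prime_orderOf_dvd_card' (G := W) 2 (hk ▸ dvd_pow_self 2 hk0)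
      have hm : (w : G) ∈ W2 := ⟨w.2, by
        have := pow_orderOf_eq_one w
        rw [hw, pow_two] at this
        exact congrArg Subtype.val this⟩
      rw [e, mem_bot] at hm
      rw [show w = 1 from Subtype.ext hm, orderOf_one] at hw
      omega
    · intro w hw
      exact (e.symm ▸ hw : w ∈ W2).2
  by_cases hact : ∃ g : G, ∃ a ∈ W, g * a ≠ a * g
  · exact Or.inr ⟨hWn, hWQ, hsq, hcQ, hact⟩
  · push Not at hact
    obtain ⟨⟨w, hw⟩, hw1⟩ := (W.ne_bot_iff_exists_ne_one).1 hW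
    have hw1' : w ≠ 1 := fun e => hw1 (Subtype.ext e)
    have hn : (zpowers w).Normal := ⟨fun a ha g => by
      rw [hact g a (zpowers_le.2 hw ha), mul_inv_cancel_right]; exact ha⟩
    rcases hmin _ hn (zpowers_le.2 hw) with e | e
    · exact absurd (zpowers_eq_bot.1 e) hw1'
    · left
      rw [← e, Nat.card_zpowers]
      exact orderOf_eq_prime (by rw [pow_two]; exact hsq w hw) hw1'

/-- A minimal module has order eight. -/
theorem minimal_eight (h : Setup Q) (hm : Mod Q W)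
    (hmin : ∀ U : Subgroup G, U.Normal → U ≤ W → U = ⊥ ∨ U = W) : Nat.card W = 8 := by
  rcases card_mod h hm with e | e
  · exact e
  exfalso
  rcases sixteen h hm e with ⟨c, hc, hc1, hfix⟩ | ⟨U, hU, hUW, hU8⟩
  · have hn : (zpowers c).Normal := ⟨fun a ha g => by
      obtain ⟨i, rfl⟩ := mem_zpowers_iff.1 ha
      rw [((show Commute g c from hfix g).zpow_right i).eq, mul_inv_cancel_right]
      exact ha⟩
    rcases hmin _ hn (zpowers_le.2 hc) with e' | e'
    · exact hc1 (zpowers_eq_bot.1 e')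
    · have h2 : Nat.card (zpowers c) = 2 := by
        rw [Nat.card_zpowers]; exact orderOf_eq_prime (by rw [pow_two]; exact hm.sq c hc) hc1
      rw [e'] at h2
      omega
  · rcases hmin U hU hUW with rfl | rfl
    · rw [card_bot] at hU8; omega
    · omega

/-- The layer above a natural module. -/
theorem layers_natural (h : Setup Q) (hR : Rad Q P) [W.Normal] (hWP : W ≤ P) (hM : Mod Q W)
    (hW8 : Nat.card W = 8) (hP16 : Nat.card P = 2 * Nat.card W) (hQ : Nat.card Q = 256)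
    (K : Subgroup G) [K.Normal] (hK : ∀ q, q ∈ K ↔ q ∈ Q ∧ q * q ∈ W) (hK128 : Nat.card K = 128)
    (hPc : ∀ x ∈ P, ∀ q ∈ Q, q * x = x * q) (hPW : ∀ x ∈ P, x * x ∈ W)
    (hgP : ∀ g : G, ∀ x ∈ P, g * x * g⁻¹ * x⁻¹ ∈ W) : False := by
  haveI := hR.normal
  haveI := h.normal
  obtain ⟨θ, ℓ, hθ, hc⟩ := coords_of_mod h hM hW8
  have hWQ := hWP.trans hR.le
  have hPsq : ∀ x ∈ P, x * x = 1 := fun x hx => mem_bot.1 (hc.fixed_mem hθ (hPW x hx) fun g => mem_bot.2 (by
    have hw := hgP g x hx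
    set w := g * x * g⁻¹ * x⁻¹ with hwd
    have e : g * (x * x) * g⁻¹ = w * x * (w * x) := by rw [hwd]; group
    rw [e, (show Commute x w from hc.commute_base hθ (hR.le hx) hw).mul_mul_mul_comm, hc.sq_eq_one hw,
      one_mul, mul_inv_cancel]))
  have hP16' : Nat.card P = 16 := by omega
  have hJ : Mod Q P := ⟨hR.normal, hR.le, hPsq, fun q hq x hx => hPc x hx q hq, by
    obtain ⟨g, a, ha, hne⟩ := hM.act
    exact ⟨g, a, hWP ha, hne⟩⟩
  rcases no_fixed_involution h hθ hJ hc hWP hP16' with ⟨c, hcP, hcW, hfix⟩ | hno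
  · set C := zpowers c with hC
    have hC2 : Nat.card C = 2 := by
      rw [hC, Nat.card_zpowers]
      exact orderOf_eq_prime (by rw [pow_two]; exact hPsq c hcP) fun e => hcW (e ▸ one_mem W)
    haveI : C.Normal := ⟨fun a ha g => by
      obtain ⟨i, rfl⟩ := mem_zpowers_iff.1 ha
      rw [((show Commute g c from hfix g).zpow_right i).eq, mul_inv_cancel_right]
      exact ha⟩
    have hCQ : C ≤ Q := zpowers_le.2 (hR.le hcP)
    obtain ⟨θ', ℓ', hθ', hc'⟩ := hc.mapQ hθ C hCQ (fun a ha haC => by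
      obtain ⟨z, -, -, -, hzc⟩ := card_two_gen hC2
      have hcz : c = z := (hzc c (mem_zpowers c)).resolve_left fun e => hcW (e ▸ one_mem W)
      rcases hzc a haC with e | e
      · exact e
      · exact absurd (hcz ▸ e ▸ ha) hcW)
    refine natural_false (h.quotient C hCQ) hθ' hc' (map_mono hWQ) ?_ ?_
    · rintro _ ⟨q, hq, rfl⟩
      rw [← map_mul]
      have hx := hR.sq q hq
      by_cases hxW : q * q ∈ W
      · exact mem_map_of_mem _ hxW
      · have hw : c⁻¹ * (q * q) ∈ W := (index_two_mul hWP hP16 (inv_mem hcP) hx).2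
          (iff_of_false (fun m => hcW (inv_mem_iff.1 m)) hxW)
        have e : QuotientGroup.mk' C (q * q) = QuotientGroup.mk' C (c⁻¹ * (q * q)) := by
          rw [map_mul (QuotientGroup.mk' C) c⁻¹, RankFourA5.mk_eq_one.2 (inv_mem (mem_zpowers c)), one_mul]
        rw [e]; exact mem_map_of_mem _ hw
    · have := card_eq_mul_map C Q hCQ
      rw [hC2, hQ] at this
      omega
  · have hKQ : K ≤ Q := fun q hq => ((hK q).1 hq).1
    have hWK : W ≤ K := fun w hw => (hK w).2 ⟨hWQ hw, by rw [hc.sq_eq_one hw]; exact one_mem W⟩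
    have hidx := fun {a b : G} (ha : a ∈ Q) (hb : b ∈ Q) =>
      index_two_mul hKQ (a := a) (b := b) (by rw [hQ, hK128]) ha hb
    obtain ⟨f, hf, hu, ha0Q, huQ⟩ := exists_f hθ
    have ha0K : f * f * (f * f) ∈ K := by
      by_contra hn
      refine hno (f * f) huQ ha0Q (f * f * (f * f) * (f * f * (f * f))) (hR.sq _ ha0Q)
        (fun m => hn ((hK _).2 ⟨ha0Q, m⟩)) ?_
      group
    obtain ⟨G0, hKG, hθ0, hS0⟩ := split h hθ K hKQ (fun g q hq => by
      refine (hidx (h.normal.conj_mem q hq g) (inv_mem hq)).2 ?_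
      rw [inv_mem_iff]
      exact ⟨fun m => by simpa [mul_assoc] using Subgroup.Normal.conj_mem (inferInstance : K.Normal) _ m g⁻¹,
        fun m => Subgroup.Normal.conj_mem (inferInstance : K.Normal) q m g⟩)
      (fun q hq => (hidx hq hq).2 Iff.rfl) ⟨f * f, huQ, ha0K⟩
    exact natural_false hS0 hθ0 (by simpa using hc.sub G0 (hWK.trans hKG)) (comap_mono hWK)
      (fun q hq => ((hK _).1 hq).2)
      (by rw [Nat.card_congr (subgroupOfEquivOfLe hKG).toEquiv, hK128]; norm_num)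

/-- The layer above a central subgroup of order two. -/
theorem layers_two (h : Setup Q) (hR : Rad Q P) [W.Normal] (hWP : W ≤ P) (hW2 : Nat.card W = 2)
    (hP4 : Nat.card P = 2 * Nat.card W) (hQ : Nat.card Q = 64) (K : Subgroup G) [K.Normal]
    (hK : ∀ q, q ∈ K ↔ q ∈ Q ∧ q * q ∈ W) (hK32 : Nat.card K = 32)
    (hcom : ∀ a ∈ Q, ∀ b ∈ Q, a * b * a⁻¹ * b⁻¹ ∈ W) (hPc : ∀ x ∈ P, ∀ q ∈ Q, q * x = x * q)
    (hPW : ∀ x ∈ P, x * x ∈ W) (hgP : ∀ g : G, ∀ x ∈ P, g * x * g⁻¹ * x⁻¹ ∈ W) : False := by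
  haveI := hR.normal
  haveI := h.normal
  have hWc : ∀ g : G, ∀ w ∈ W, g * w = w * g := fun g w hw => (two_central hW2 hw).2 g
  have hWQ := hWP.trans hR.le
  have hab := abel h hR hPc fun a ha b hb => two_central hW2 (hcom a ha b hb)
  set A := sqKer Q hab with hA
  haveI : A.Normal := sqKer_normal h.normal hab
  have hAQ : A ≤ Q := fun a ha => ha.1
  have hWA : W ≤ A := fun w hw => ⟨hWQ hw, (two_central hW2 hw).1⟩
  -- squaring maps onto `P`
  have hA16 : Nat.card A = 16 := by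
    let σ : Q →* P := MonoidHom.mk' (fun q => ⟨(q : G) * q, hR.sq q q.2⟩)
      fun a b => Subtype.ext (sq_mul hab a.2 b.2)
    have hsurj : Function.Surjective σ := fun x => by
      obtain ⟨y, ⟨q, rfl⟩, hq⟩ := mem_map.1
        (hR.min (σ.range.map P.subtype) (fun q hq => ⟨σ ⟨q, hq⟩, ⟨_, rfl⟩, rfl⟩) x.2)
      exact ⟨q, Subtype.ext hq⟩
    have hker : σ.ker = A.subgroupOf Q := by
      ext q
      rw [MonoidHom.mem_ker, mem_subgroupOf, Subtype.ext_iff]
      exact ⟨fun e => ⟨q.2, e⟩, fun e => e.2⟩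
    have := card_eq_card_quotient_mul_card_subgroup σ.ker
    rw [Nat.card_congr (QuotientGroup.quotientKerEquivOfSurjective σ hsurj).toEquiv, hker,
      Nat.card_congr (subgroupOfEquivOfLe hAQ).toEquiv, hP4, hW2, hQ] at this
    omega
  set mk := QuotientGroup.mk' P with hmk
  have hS := h.quotient P hR.le
  have hV := quotMod h.normal hR
  rw [← hmk] at hS hV
  haveI hUn : (A.map mk).Normal := (inferInstance : A.Normal).map mk (QuotientGroup.mk'_surjective P)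
  have hUV : A.map mk ≤ Q.map mk := map_mono hAQ
  have hcardU := card_inf_mul_map P A
  rw [← hmk, hA16] at hcardU
  -- `P` is cyclic
  obtain ⟨z, hzP, hz1⟩ : ∃ z ∈ P, z * z ≠ 1 := by
    by_contra hno
    push Not at hno
    have hi : A ⊓ P = P := inf_eq_right.2 fun x hx => ⟨hR.le hx, hno x hx⟩
    rw [hi, hP4, hW2] at hcardU
    obtain ⟨g, a, ha, hne⟩ := act_of_card hS hV hUV (by omega)
    rcases card_mod hS ⟨hUn, hUV, fun a ha => hV.sq a (hUV ha), fun q hq a ha => hV.cQ q hq a (hUV ha),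
      g, a, ha, hne⟩ with e | e <;> omega
  have hzQ := hR.le hzP
  have hzW : z ∉ W := fun m => hz1 (two_central hW2 m).1
  have hzz : z * z ∈ W := hPW z hzP
  have hPcases : ∀ x ∈ P, x ∈ W ∨ z⁻¹ * x ∈ W := fun x hx => or_iff_not_imp_left.2 fun m =>
    (index_two_mul hWP hP4 (inv_mem hzP) hx).2 (iff_of_false (fun m' => hzW (inv_mem_iff.1 m')) m)
  have hinf : A ⊓ P = W := le_antisymm (fun x hx => by
    rcases hPcases x hx.2 with e | e
    · exact e
    · exfalso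
      refine hz1 ?_
      have h2 : x * x = 1 := hx.1.2
      rw [show x = z * (z⁻¹ * x) by group, sq_mul hab hzQ (hWQ e), (two_central hW2 e).1, mul_one] at h2
      exact h2) (le_inf hWA hWP)
  rw [hinf, hW2] at hcardU
  have hU8 : Nat.card (A.map mk) = 8 := by omega
  -- `P` is central
  have hzc : ∀ g : G, g * z = z * g := by
    let S : Subgroup G := centralizer {z}
    have hSmem : ∀ g, g ∈ S ↔ g * z = z * g := fun g => mem_centralizer_singleton_iff
    haveI : S.Normal := ⟨fun g hg k => by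
      rw [hSmem] at hg ⊢
      have hw := hgP k⁻¹ z hzP
      rw [inv_inv] at hw
      have hc : Commute g (k⁻¹ * z * k) := by
        rw [show k⁻¹ * z * k = k⁻¹ * z * k * z⁻¹ * z by group]
        exact (show Commute g (k⁻¹ * z * k * z⁻¹) from hWc g _ hw).mul_right hg
      calc k * g * k⁻¹ * z = k * (g * (k⁻¹ * z * k)) * k⁻¹ := by group
        _ = k * (k⁻¹ * z * k * g) * k⁻¹ := by rw [hc.eq]
        _ = z * (k * g * k⁻¹) := by group⟩
    rcases h.normal_cases S (fun q hq => (hSmem q).2 (hPc z hzP q hq)) with e | e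
    · exfalso
      obtain ⟨t, ht, ht7⟩ := h.exists_seven
      have htt : t * t ∈ Q := by
        rw [← e, hSmem]
        have hw := hgP t z hzP
        set w := t * z * t⁻¹ * z⁻¹ with hwd
        have hwz : t * z * t⁻¹ = w * z := (inv_mul_cancel_right (t * z * t⁻¹) z).symm
        refine mul_inv_eq_iff_eq_mul.1 ?_
        calc t * t * z * (t * t)⁻¹ = t * (t * z * t⁻¹) * t⁻¹ := by group
          _ = t * (w * z) * t⁻¹ := by rw [hwz]
          _ = t * w * t⁻¹ * (t * z * t⁻¹) := by group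
          _ = w * w * z := by rw [hWc t w hw, mul_inv_cancel_right, hwz, mul_assoc w w z]
          _ = z := by rw [(two_central hW2 hw).1, one_mul]
      refine ht ?_
      have := mul_mem ht7 (inv_mem (pow_mem htt 3))
      rwa [show (t * t) ^ 3 = t ^ 6 by rw [← pow_two, ← pow_mul], pow_succ' t 6,
        mul_inv_cancel_right] at this
    · exact fun g => (hSmem g).1 (e ▸ mem_top g)
  have hPG : ∀ g : G, ∀ x ∈ P, Commute g x := fun g x hx => by
    rcases hPcases x hx with e | e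
    · exact hWc g x e
    · rw [show x = z * (z⁻¹ * x) by group]
      exact (show Commute g z from hzc g).mul_right (hWc g _ e)
  -- coordinates on `A`
  have hact : ∃ g : G, ∃ a ∈ A, g * a * g⁻¹ * a⁻¹ ∉ W := by
    by_contra hno
    push Not at hno
    obtain ⟨x, y, hy, hne⟩ := act_of_card hS hV hUV (by omega)
    obtain ⟨g, rfl⟩ := QuotientGroup.mk'_surjective P x
    obtain ⟨a, ha, rfl⟩ := mem_map.1 hy
    refine hne ?_
    have h1 := RankFourA5.mk_eq_one.2 (hWP (hno g a ha))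
    rw [map_mul, map_mul, map_mul, map_inv, map_inv] at h1
    exact mul_inv_eq_iff_eq_mul.1 (mul_inv_eq_one.1 h1)
  obtain ⟨θ, v, hθ, hv⟩ := coords_quot h A W hWA hAQ (fun a ha => by rw [ha.2]; exact one_mem W)
    (fun q hq a ha => by rw [hab q hq a (hAQ ha)]; simp) (by rw [hA16, hW2]) hact
  -- first step
  have hKQ : K ≤ Q := fun q hq => ((hK q).1 hq).1
  have hAK : A ≤ K := fun a ha => (hK a).2 ⟨ha.1, by rw [ha.2]; exact one_mem W⟩
  have hzK : z ∈ K := (hK z).2 ⟨hzQ, hzz⟩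
  have hσg : ∀ g : G, ∀ q ∈ Q, g * q * g⁻¹ * (g * q * g⁻¹) = q * q := fun g q hq => by
    rw [sq_conj, (hPG g _ (hR.sq q hq)).eq, mul_inv_cancel_right]
  have hσm : ∀ p ∈ Q, ∀ q ∈ Q, p * q * (p * q) = p * p * (q * q) := fun p hp q hq => sq_mul hab hp hq
  obtain ⟨f, hf, hu, hsQ, huQ⟩ := exists_f hθ
  obtain ⟨r, hr, hr3⟩ := exists_r h hθ
  obtain ⟨hθ2, hθ3, -, hkQ, -, -, -⟩ := triple hθ hu hr hr3
  set e1 := f * f with he1
  set e2 := r * e1 * r⁻¹ with he2
  set e3 := r * e2 * r⁻¹ with he3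
  set s := e1 * e1 with hs
  have hcQ : ∀ g, ∀ q ∈ Q, g * q * g⁻¹ ∈ Q := fun g q hq => h.normal.conj_mem q hq g
  have hσ2 : e2 * e2 * (e2 * e2) = s * s := by
    rw [show e2 * e2 = r * s * r⁻¹ from sq_conj r e1]; exact hσg r s hsQ
  have hs2Q : e2 * e2 ∈ Q := by
    rw [show e2 * e2 = r * s * r⁻¹ from sq_conj r e1]; exact hcQ r s hsQ
  have hs3Q : e3 * e3 ∈ Q := by
    rw [show e3 * e3 = r * (e2 * e2) * r⁻¹ from sq_conj r e2]; exact hcQ r _ hs2Q
  have hσ3 : e3 * e3 * (e3 * e3) = s * s := by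
    rw [show e3 * e3 = r * (e2 * e2) * r⁻¹ from sq_conj r e2, hσg r _ hs2Q, hσ2]
  set γ := e1 * e2 * e1⁻¹ * e2⁻¹ with hγ
  have hγQ : γ ∈ Q := hθ.comm_lift_mem hu hθ2
  set k := e1 * e2 * e3⁻¹ with hk
  have hγ4 : γ * γ * (γ * γ) = 1 := by
    have e0 : e1 * γ * e1⁻¹ * γ = s * (e2 * s⁻¹ * e2⁻¹) := by rw [hs, hγ]; group
    have := congrArg (fun x : G => x * x) e0
    rw [hσm _ (hcQ e1 γ hγQ) _ hγQ, hσg e1 γ hγQ, hσm _ hsQ _ (hcQ e2 _ (inv_mem hsQ)),
      hσg e2 _ (inv_mem hsQ), ← _root_.mul_inv_rev, mul_inv_cancel] at this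
    exact this
  have heq : γ * γ * (s * s) = k * k * (k * k) := by
    have e0 : γ * (e2 * s * e2⁻¹) * (e2 * e2) = k * (e3 * k * e3⁻¹) * (e3 * e3) := by
      rw [hs, hγ, hk]; group
    have := congrArg (fun x : G => x * x) e0
    rw [hσm _ (mul_mem hγQ (hcQ e2 s hsQ)) _ hs2Q, hσm _ hγQ _ (hcQ e2 s hsQ), hσg e2 s hsQ, hσ2,
      hσm _ (mul_mem hkQ (hcQ e3 k hkQ)) _ hs3Q, hσm _ hkQ _ (hcQ e3 k hkQ), hσg e3 k hkQ, hσ3] at this
    exact mul_right_cancel this
  have hb : s * s * (s * s) = 1 := by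
    have := congrArg (fun x : G => x * x) heq
    rw [hσm _ (mul_mem hγQ hγQ) _ (mul_mem hsQ hsQ), hγ4, one_mul] at this
    rw [this, (two_central hW2 (hPW _ (hR.sq k hkQ))).1]
  have hsK : s ∈ K := (hK s).2 ⟨hsQ, by
    rw [← hinf]; exact ⟨⟨mul_mem hsQ hsQ, hb⟩, hR.sq s hsQ⟩⟩
  obtain ⟨G0, hKG, hθ0, hS0⟩ := split h hθ K hKQ
    (fun g q hq => (hK _).2 ⟨mul_mem (hcQ g q hq) (inv_mem hq), by
      rw [hσm _ (hcQ g q hq) _ (inv_mem hq), hσg g q hq, ← _root_.mul_inv_rev, mul_inv_cancel]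
      exact one_mem W⟩)
    (fun q hq => (hK _).2 ⟨mul_mem hq hq, hPW _ (hR.sq q hq)⟩) ⟨e1, huQ, hsK⟩
  obtain ⟨w, hw, hw1, -, hwc⟩ := card_two_gen hW2
  refine cyclic_false hS0 hθ0 (hv.sub G0 (hAK.trans hKG)) (comap_mono hAK)
    (fun a ha b hb => Subtype.ext (hab _ (hKQ ha) _ (hKQ hb))) (fun a ha => Subtype.ext ha.2)
    (by rw [Nat.card_congr (subgroupOfEquivOfLe (hWA.trans (hAK.trans hKG))).toEquiv, hW2])
    (fun g w hw => Subtype.ext (hWc g w hw)) (z := ⟨z, hKG hzK⟩) hzK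
    (fun g => Subtype.ext (hzc g)) hzz (fun e => hz1 (congrArg Subtype.val e)) (fun q hq => ?_)
    (by rw [Nat.card_congr (subgroupOfEquivOfLe hKG).toEquiv, hK32])
  obtain ⟨hqQ, hqW⟩ := (hK (q : G)).1 hq
  rcases hwc _ hqW with e | e
  · exact Or.inl ⟨hqQ, e⟩
  · refine Or.inr (⟨mul_mem (inv_mem hzQ) hqQ, ?_⟩ : z⁻¹ * (q : G) ∈ A)
    rw [hσm _ (inv_mem hzQ) _ hqQ, ← _root_.mul_inv_rev, e,
      ← (hwc _ hzz).resolve_left hz1, inv_mul_cancel]

/-- Two layers of squares are impossible. -/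
theorem layers_false (h : Setup Q) (hR : Rad Q P) [W.Normal] (hWP : W ≤ P) (hW : W ≠ ⊥)
    (hidx : Nat.card P = 2 * Nat.card W)
    (hmin : ∀ U : Subgroup G, U.Normal → U ≤ W → U = ⊥ ∨ U = W) : False := by
  haveI := hR.normal
  haveI := h.normal
  have hWQ := hWP.trans hR.le
  set mk := QuotientGroup.mk' W with hmk
  have hP2 : Nat.card (P.map mk) = 2 := by
    have := card_eq_mul_map W P hWP
    rw [hidx, mul_comm, ← hmk] at this
    exact (Nat.eq_of_mul_eq_mul_left Nat.card_pos this).symm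
  have hR' : Rad (Q.map mk) (P.map mk) := hR.quotient W hWP
  have hS' : Setup (Q.map mk) := h.quotient W hWQ
  haveI := hR'.normal
  obtain ⟨hab', hQ32, hK16⟩ := two hS' hR' hP2
  haveI := sqKer_normal hS'.normal hab'
  set K := (sqKer (Q.map mk) hab').comap mk with hKdef
  have hK : ∀ q, q ∈ K ↔ q ∈ Q ∧ q * q ∈ W := fun q => by
    rw [hKdef, mem_comap]
    show mk q ∈ Q.map mk ∧ mk q * mk q = 1 ↔ _
    rw [← map_mul]
    exact and_congr (mem_map_mk hWQ) RankFourA5.mk_eq_one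
  have hQc : Nat.card Q = Nat.card W * 32 := by rw [← hQ32]; exact card_eq_mul_map W Q hWQ
  have hKc : Nat.card K = Nat.card W * 16 := by rw [← hK16, hKdef, card_comap_mk]
  haveI : K.Normal := Subgroup.Normal.comap (sqKer_normal hS'.normal hab') mk
  have hcom : ∀ a ∈ Q, ∀ b ∈ Q, a * b * a⁻¹ * b⁻¹ ∈ W := fun a ha b hb => by
    refine (RankFourA5.mk_eq_one (N := W)).1 ?_
    rw [← hmk, map_mul, map_mul, map_mul, map_inv, map_inv,
      hab' _ (mem_map_of_mem mk ha) _ (mem_map_of_mem mk hb)]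
    group
  have hgP : ∀ g : G, ∀ x ∈ P, g * x * g⁻¹ * x⁻¹ ∈ W := fun g x hx => by
    refine (RankFourA5.mk_eq_one (N := W)).1 ?_
    rw [← hmk, map_mul, map_mul, map_mul, map_inv, map_inv,
      (two_central hP2 (mem_map_of_mem mk hx)).2 (mk g)]
    group
  have hPW : ∀ x ∈ P, x * x ∈ W := fun x hx => by
    refine (RankFourA5.mk_eq_one (N := W)).1 ?_
    rw [← hmk, map_mul]
    exact (two_central hP2 (mem_map_of_mem mk hx)).1
  have hWp : (∀ w ∈ W, w * w = 1) ∧ ∀ q ∈ Q, ∀ w ∈ W, q * w = w * q := by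
    rcases minimal_two h hWQ hW hmin with h2 | hM
    · exact ⟨fun w hw => (two_central h2 hw).1, fun q _ w hw => (two_central h2 hw).2 q⟩
    · exact ⟨hM.sq, hM.cQ⟩
  have hPc : ∀ x ∈ P, ∀ q ∈ Q, q * x = x * q := fun x hx q hq => by
    refine mem_centralizer_iff.1 (hR.min (centralizer (Q : Set G)) (fun a ha => mem_centralizer_iff.2
      fun b hb => ?_) hx) q hq
    have hw := hcom a ha b hb
    set w := a * b * a⁻¹ * b⁻¹ with hwd
    have e1 : a * b * a⁻¹ = w * b := by rw [hwd]; group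
    have e2 : a * a * b * (a * a)⁻¹ = b := by
      calc a * a * b * (a * a)⁻¹ = a * (a * b * a⁻¹) * a⁻¹ := by group
        _ = a * (w * b) * a⁻¹ := by rw [e1]
        _ = a * w * a⁻¹ * (a * b * a⁻¹) := by group
        _ = w * w * b := by rw [hWp.2 a ha w hw, mul_inv_cancel_right, e1, mul_assoc w w b]
        _ = b := by rw [hWp.1 w hw, one_mul]
    exact (mul_inv_eq_iff_eq_mul.1 e2).symm
  rcases minimal_two h hWQ hW hmin with h2 | hM
  · exact layers_two h hR hWP h2 hidx (by rw [hQc, h2]) K hK (by rw [hKc, h2]) hcom hPc hPW hgP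
  · have h8 := minimal_eight h hM hmin
    exact layers_natural h hR hWP hM h8 hidx (by rw [hQc, h8]) K hK (by rw [hKc, h8]) hPc hPW hgP

/-- The radical of an extension by `GL₃(2)`. -/
theorem Rad.main (h : Setup Q) (hR : Rad Q P) :
    ((∀ q ∈ Q, q * q = 1) ∧ (Nat.card Q = 8 ∨ Nat.card Q = 16)) ∨
      Nonempty (Q ≃* Multiplicative (ZMod 4) × (Fin 3 → Multiplicative (ZMod 2))) := by
  haveI := hR.normal
  haveI := h.normal
  by_cases hP : P = ⊥
  · left
    have hex : ∀ q ∈ Q, q * q = 1 := fun q hq => mem_bot.1 (hP ▸ hR.sq q hq)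
    refine ⟨hex, card_mod h ⟨h.normal, le_rfl, hex, fun q hq a ha => comm_of_sq hex hq ha, ?_⟩⟩
    obtain ⟨g, q, hq, hne⟩ := hR.act
    exact ⟨g, q, hq, fun e => hne (by rw [e, mul_inv_cancel_right, mul_inv_cancel]; exact one_mem P)⟩
  right
  obtain ⟨M0, -, hM0⟩ := Finite.exists_le_maximal (p := fun M : Subgroup G => M.Normal ∧ M < P)
    (a := ⊥) ⟨inferInstance, bot_lt_iff_ne_bot.2 hP⟩
  haveI := hM0.prop.1
  have hidx : Nat.card P = 2 * Nat.card M0 := by
    have hle := hM0.prop.2.le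
    have hS := h.quotient M0 (hle.trans hR.le)
    have hR' := hR.quotient M0 hle
    haveI := hR'.normal
    obtain ⟨hne, hmin⟩ := minimal_of_maximal hM0.prop.2 (fun U hU hlt hle' =>
      le_antisymm (hM0.le_of_ge ⟨hU, hlt⟩ hle') hle')
    have h2 : Nat.card (P.map (QuotientGroup.mk' M0)) = 2 := by
      rcases minimal_two hS hR'.le hne hmin with h2 | hM
      · exact h2
      · exfalso
        have h8 := minimal_eight hS hM hmin
        obtain ⟨θ, ℓ, hθ, hc⟩ := coords_of_mod hS hM h8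
        exact natural_false hS hθ hc hR'.le hR'.sq
          (by rcases card_cases hS hR' with e | e <;> rw [e, h8] <;> norm_num)
    rw [card_eq_mul_map M0 P hle, h2, mul_comm]
  by_cases hM0b : M0 = ⊥
  · have hP2 : Nat.card P = 2 := by rw [hidx, hM0b, card_bot]
    obtain ⟨hab, h32, h16⟩ := two h hR hP2
    obtain ⟨c, hc, hc2⟩ : ∃ c ∈ Q, c * c ≠ 1 := by
      by_contra hno
      push Not at hno
      have := hR.min ⊥ fun q hq => mem_bot.2 (hno q hq)
      exact hP (le_bot_iff.1 this)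
    exact iso_of_two (fun a b => Subtype.ext (hab a a.2 b b.2)) h32 ((sqKer Q hab).subgroupOf Q)
      (by rw [Nat.card_congr (subgroupOfEquivOfLe (fun q hq => hq.1 : sqKer Q hab ≤ Q)).toEquiv, h16])
      (fun k hk => Subtype.ext hk.2) ⟨c, hc⟩
      (⟨mul_mem hc hc, (two_central hP2 (hR.sq c hc)).1⟩ : c * c ∈ sqKer Q hab)
      (fun e => hc2 (congrArg Subtype.val e))
  exfalso
  obtain ⟨M, -, hM⟩ := Finite.exists_le_maximal (p := fun M : Subgroup G => M.Normal ∧ M < M0)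
    (a := ⊥) ⟨inferInstance, bot_lt_iff_ne_bot.2 hM0b⟩
  haveI := hM.prop.1
  have hMP : M ≤ P := hM.prop.2.le.trans hM0.prop.2.le
  obtain ⟨hne, hmin⟩ := minimal_of_maximal hM.prop.2 (fun U hU hlt hle =>
    le_antisymm (hM.le_of_ge ⟨hU, hlt⟩ hle) hle)
  haveI : (M0.map (QuotientGroup.mk' M)).Normal :=
    hM0.prop.1.map _ (QuotientGroup.mk'_surjective M)
  refine layers_false (h.quotient M (hMP.trans hR.le)) (hR.quotient M hMP)
    (map_mono hM0.prop.2.le) hne ?_ hmin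
  rw [card_eq_mul_map M P hMP, card_eq_mul_map M M0 hM.prop.2.le, mul_left_comm] at hidx
  exact Nat.eq_of_mul_eq_mul_left Nat.card_pos hidx

end CfsgLib.RankFourL32
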