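import Cfsg.Agent.Lib.RankFourL32.Core

/-!
A natural module under an elementary factor is impossible.
-/

set_option autoImplicit false
set_option linter.unusedSectionVars false
set_option linter.unusedVariables false
set_option linter.style.haveILetI false

open scoped Classical

namespace CfsgLib.RankFourL32

open Subgroup Matrix RankFourA5

variable {G : Type*} [Group G] [Finite G] {Q W : Subgroup G} {θ : G →* GL (Fin 3) (ZMod 2)}
  {ℓ : G → V3}

theorem index_two_mul (hKQ : W ≤ Q) (hcard : Nat.card Q = 2 * Nat.card W) {a b : G} (ha : a ∈ Q)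
    (hb : b ∈ Q) : (a * b ∈ W ↔ (a ∈ W ↔ b ∈ W)) := by
  have hidx : (W.subgroupOf Q).index = 2 := by
    have := card_mul_index (W.subgroupOf Q)
    rw [Nat.card_congr (subgroupOfEquivOfLe hKQ).toEquiv, hcard, mul_comm 2] at this
    exact Nat.eq_of_mul_eq_mul_left Nat.card_pos this
  exact mul_mem_iff_of_index_two hidx (a := ⟨a, ha⟩) (b := ⟨b, hb⟩)

/-- A fixed involution outside `W`. -/
theorem fixed_false (h : Setup Q) (hθ : Frame θ Q) (hc : Coords θ W ⊥ ℓ) (hWQ : W ≤ Q)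
    (hsq : ∀ q ∈ Q, q * q ∈ W) (hcard : Nat.card Q = 128) {c : G} (hcQ : c ∈ Q) (hcW : c ∉ W)
    (hc2 : c * c = 1) (hfix : ∀ g : G, g * c = c * g) : False := by
  have hc1 : c ≠ 1 := fun e => hcW (e ▸ one_mem W)
  set C := Subgroup.zpowers c with hC
  have hC2 : Nat.card C = 2 := by
    rw [Nat.card_zpowers]; exact orderOf_eq_prime (by rw [pow_two]; exact hc2) hc1
  haveI : C.Normal := ⟨fun x hx g => by
    obtain ⟨i, rfl⟩ := mem_zpowers_iff.1 hx
    rw [(show Commute g c from hfix g).zpow_right i |>.eq, mul_inv_cancel_right]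
    exact hx⟩
  have hCQ : C ≤ Q := zpowers_le.2 hcQ
  obtain ⟨z, hz, hz1, -, hzc⟩ := card_two_gen hC2
  have hcz : c = z := (hzc c (mem_zpowers c)).resolve_left hc1
  obtain ⟨θ', ℓ', hθ', hc'⟩ := hc.mapQ hθ C hCQ (fun a ha haC => by
    rcases hzc a haC with e | e
    · exact e
    · exact absurd (hcz ▸ e ▸ ha) hcW)
  refine core (h.quotient C hCQ) hθ' hc' (map_mono hWQ) ?_ ?_
  · rintro _ ⟨q, hq, rfl⟩
    rw [← map_mul]; exact mem_map_of_mem _ (hsq q hq)
  · have e : (Q.map (QuotientGroup.mk' C)).comap (QuotientGroup.mk' C) = Q := by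
      ext g; exact mem_map_mk hCQ
    have h1 := card_comap_mk C (Q.map (QuotientGroup.mk' C))
    rw [e, hcard, hC2] at h1
    omega

/-- An equivariant section gives an invariant hyperplane. -/
theorem hyperplane_of_section (h : Setup Q) (hθ : Frame θ Q) (hc : Coords θ W ⊥ ℓ) (hWQ : W ≤ Q)
    (hsq : ∀ q ∈ Q, q * q ∈ W) (J : Subgroup G) {v : G → V3} (hv : Coords θ Q J v) (hWJ : W ≤ J)
    {a : G} (haJ : a ∈ J) (hafix : ∀ g : G, g * a * g⁻¹ * a⁻¹ ∈ W)
    (hJ : ∀ x ∈ J, x ∈ W ∨ a⁻¹ * x ∈ W) {x0 : G} (hx0 : x0 ∈ Q) (hvx : v x0 = d)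
    (hstab : ∀ g : G, (θ g : M3) *ᵥ d = d → g * x0 * g⁻¹ * x0⁻¹ ∈ W) :
    ∃ K : Subgroup G, K.Normal ∧ W ≤ K ∧ K ≤ Q ∧ Nat.card K = 64 := by
  haveI := hc.normal
  haveI := h.normal
  set mk := QuotientGroup.mk' W with hmk
  have hsqX : ∀ x ∈ Q.map mk, x * x = 1 := by
    rintro _ ⟨q, hq, rfl⟩
    rw [← map_mul]; exact mk_eq_one.2 (hsq q hq)
  have hcX : ∀ x ∈ Q.map mk, ∀ y ∈ Q.map mk, x * y = y * x := fun x hx y hy => comm_of_sq hsqX hx hy
  have hfix : ∀ g : G, mk g * mk a * (mk g)⁻¹ = mk a := fun g => by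
    rw [← map_inv, ← map_mul, ← map_mul]
    exact mul_inv_eq_one.1 (by rw [← map_inv, ← map_mul]; exact mk_eq_one.2 (hafix g))
  have hexg : ∀ w : V3, w ≠ 0 → ∃ g : G, (θ g : M3) *ᵥ d = w := fun w hw => by
    obtain ⟨M, hM, hMw⟩ := transitive d w d_ne_zero hw
    obtain ⟨g, hg⟩ := hθ.lift hM
    exact ⟨g, by rw [hg, hMw]⟩
  let σ : V3 → G ⧸ W := fun w =>
    if hw : w = 0 then 1 else mk ((hexg w hw).choose * x0 * (hexg w hw).choose⁻¹)
  have hσ : ∀ g w, (θ g : M3) *ᵥ d = w → σ w = mk (g * x0 * g⁻¹) := fun g w hgw => by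
    have hw : w ≠ 0 := fun e => d_ne_zero (by
      have h1 : (θ g⁻¹ : M3) *ᵥ ((θ g : M3) *ᵥ d) = d := by
        rw [mulVec_mulVec, Frame.mul_inv, one_mulVec]
      rw [hgw, e, mulVec_zero] at h1
      exact h1.symm)
    set g' := (hexg w hw).choose with hg'
    have hg'w : (θ g' : M3) *ᵥ d = w := (hexg w hw).choose_spec
    have h1 : (θ (g⁻¹ * g') : M3) *ᵥ d = d := by
      rw [map_mul, Units.val_mul, ← mulVec_mulVec, hg'w, ← hgw, mulVec_mulVec, Frame.mul_inv,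
        one_mulVec]
    have h2 := mk_eq_one.2 ((inferInstance : W.Normal).conj_mem _ (hstab _ h1) g)
    show (if hw : w = 0 then (1 : G ⧸ W) else mk ((hexg w hw).choose * x0 * (hexg w hw).choose⁻¹)) = _
    rw [dif_neg hw, ← mul_inv_eq_one, ← map_inv, ← map_mul, ← h2]
    congr 1
    rw [← hg']; group
  have hσ0 : σ 0 = 1 := dif_pos rfl
  have hσQ : ∀ w, σ w ∈ Q.map mk := fun w => by
    by_cases hw : w = 0
    · rw [hw, hσ0]; exact one_mem _
    obtain ⟨g, hg⟩ := hexg w hw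
    rw [hσ g w hg]
    exact mem_map_of_mem _ (h.normal.conj_mem x0 hx0 g)
  have hequiv : ∀ (g : G) (w : V3), mk g * σ w * (mk g)⁻¹ = σ ((θ g : M3) *ᵥ w) := fun g w => by
    by_cases hw : w = 0
    · rw [hw, hσ0, mulVec_zero, hσ0]; group
    obtain ⟨g', hg'⟩ := hexg w hw
    rw [hσ g' w hg', hσ (g * g') _ (by rw [map_mul, Units.val_mul, ← mulVec_mulVec, hg'])]
    simp only [map_mul, map_inv, _root_.mul_inv_rev]
    group
  have hlift : ∀ w, ∃ q ∈ Q, mk q = σ w ∧ v q = w := fun w => by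
    by_cases hw : w = 0
    · exact ⟨1, one_mem Q, by rw [hw, hσ0, map_one], by rw [hw, hv.map_one]⟩
    obtain ⟨g, hg⟩ := hexg w hw
    exact ⟨g * x0 * g⁻¹, h.normal.conj_mem x0 hx0 g, (hσ g w hg).symm,
      by rw [hv.conj g x0 hx0, hvx, hg]⟩
  set p : V3 := ![1, 0, 0] with hp
  set q : V3 := ![0, 1, 0] with hq
  have hB : ∀ x y, σ x * σ y * σ (x + y) = 1 ∨ σ x * σ y * σ (x + y) = mk a := fun x y => by
    obtain ⟨q1, h1, e1, f1⟩ := hlift x
    obtain ⟨q2, h2, e2, f2⟩ := hlift y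
    obtain ⟨q3, h3, e3, f3⟩ := hlift (x + y)
    rw [← e1, ← e2, ← e3, ← map_mul, ← map_mul]
    have hm : q1 * q2 * q3 ∈ Q := mul_mem (mul_mem h1 h2) h3
    have hj : q1 * q2 * q3 ∈ J := (hv.ker _ hm).1 (by
      rw [hv.add _ (mul_mem h1 h2) _ h3, hv.add _ h1 _ h2, f1, f2, f3, RankFourL32.add_self])
    rcases hJ _ hj with e | e
    · exact Or.inl (mk_eq_one.2 e)
    · refine Or.inr (inv_mul_eq_one.1 ?_).symm
      rw [← map_inv, ← map_mul]; exact mk_eq_one.2 e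
  set c := σ p * σ q * σ (p + q) with hcdef
  have hcQ : c ∈ Q.map mk := mul_mem (mul_mem (hσQ p) (hσQ q)) (hσQ _)
  have hcfix : ∀ g : G, mk g * c * (mk g)⁻¹ = c := fun g => by
    rcases hB p q with e | e <;> rw [hcdef, e]
    · group
    · exact hfix g
  have hBc : ∀ x y, x ≠ 0 → y ≠ 0 → x ≠ y → σ x * σ y * σ (x + y) = c := fun x y hx hy hxy => by
    obtain ⟨M, hM, h1, h2⟩ := transitive_pairs x y hx hy hxy
    obtain ⟨g, hg⟩ := hθ.lift hM
    rw [← hcfix g, hcdef, show mk g * (σ p * σ q * σ (p + q)) * (mk g)⁻¹ =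
      (mk g * σ p * (mk g)⁻¹) * (mk g * σ q * (mk g)⁻¹) * (mk g * σ (p + q) * (mk g)⁻¹) by group,
      hequiv, hequiv, hequiv, mulVec_add, hg, h1, h2]
  let τ : V3 → G ⧸ W := fun w => if w = 0 then 1 else σ w * c
  have hτ0 : τ 0 = 1 := if_pos rfl
  have hτ1 : ∀ w, w ≠ 0 → τ w = σ w * c := fun w hw => if_neg hw
  have hmul : ∀ x y, τ (x + y) = τ x * τ y := fun x y => by
    by_cases hx : x = 0
    · rw [hx, zero_add, hτ0, one_mul]
    by_cases hy : y = 0
    · rw [hy, add_zero, hτ0, mul_one]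
    by_cases hxy : x = y
    · rw [hxy, RankFourL32.add_self, hτ0, hτ1 y hy, hsqX _ (mul_mem (hσQ y) hcQ)]
    have hxy0 : x + y ≠ 0 := fun e => hxy (by
      rw [← add_zero x, ← RankFourL32.add_self y, ← add_assoc, e, zero_add])
    rw [hτ1 x hx, hτ1 y hy, hτ1 _ hxy0,
      (show Commute c (σ y) from hcX _ hcQ _ (hσQ y)).mul_mul_mul_comm, hsqX c hcQ, mul_one,
      ← hBc x y hx hy hxy, hcX (σ (x + y)) (hσQ _) _ (mul_mem (mul_mem (hσQ x) (hσQ y)) (hσQ _)),
      mul_assoc (σ x * σ y), hsqX _ (hσQ _), mul_one]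
  let U : Subgroup (G ⧸ W) :=
    { carrier := Set.range τ
      one_mem' := ⟨0, hτ0⟩
      mul_mem' := by rintro _ _ ⟨x, rfl⟩ ⟨y, rfl⟩; exact ⟨x + y, hmul x y⟩
      inv_mem' := by
        rintro _ ⟨x, rfl⟩
        exact ⟨x, (inv_eq_of_mul_eq_one_right (by rw [← hmul, RankFourL32.add_self, hτ0])).symm⟩ }
  have hUn : U.Normal := ⟨by
    rintro _ ⟨w, rfl⟩ x
    induction x using QuotientGroup.induction_on with
    | _ g =>
      refine ⟨(θ g : M3) *ᵥ w, ?_⟩
      show _ = mk g * τ w * (mk g)⁻¹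
      by_cases hw : w = 0
      · rw [hw, mulVec_zero, hτ0]; group
      · have hgw : (θ g : M3) *ᵥ w ≠ 0 := fun e => hw (by
          rw [← one_mulVec w, ← Frame.mul_inv (θ := θ) g, ← mulVec_mulVec, e, mulVec_zero])
        rw [hτ1 w hw, hτ1 _ hgw, ← hequiv]
        conv_lhs => rw [← hcfix g]
        group⟩
  have hU8 : Nat.card U = 8 := by
    have hinj : Function.Injective τ := fun x y e => by
      have e' : τ (x + y) = 1 := by rw [hmul, e, ← hmul, RankFourL32.add_self, hτ0]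
      by_contra hxy
      have hxy0 : x + y ≠ 0 := fun e0 => hxy (by
        rw [← add_zero x, ← RankFourL32.add_self y, ← add_assoc, e0, zero_add])
      rw [hτ1 _ hxy0] at e'
      obtain ⟨q1, h1, e1, f1⟩ := hlift (x + y)
      have hca : c = 1 ∨ c = mk a := hB p q
      have hq1J : q1 ∈ J := by
        rcases hca with hca | hca <;> rw [hca] at e'
        · rw [mul_one, ← e1] at e'
          exact hWJ (mk_eq_one.1 e')
        · rw [← e1, ← map_mul] at e'
          simpa using mul_mem (hWJ (mk_eq_one.1 e')) (inv_mem haJ)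
      rw [(hv.ker q1 h1).2 hq1J] at f1
      exact hxy0 f1.symm
    rw [show Nat.card U = Nat.card (Set.range τ) from rfl, Nat.card_range_of_injective hinj,
      Nat.card_eq_fintype_card]
    simp
  haveI := hUn
  refine ⟨U.comap mk, inferInstance, fun x hx => ?_, fun x hx => ?_, ?_⟩
  · rw [mem_comap, hmk, mk_eq_one.2 hx]; exact one_mem U
  · obtain ⟨w, hw⟩ := (hx : mk x ∈ U)
    have : mk x ∈ Q.map mk := by
      rw [← hw]
      by_cases h0 : w = 0
      · rw [h0, hτ0]; exact one_mem _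
      · rw [hτ1 w h0]; exact mul_mem (hσQ w) hcQ
    exact (mem_map_mk hWQ).1 this
  · rw [card_comap_mk, hU8, hc.card_eq, card_bot]

theorem add_eq_zero_iff {x y : V3} : x + y = 0 ↔ x = y :=
  ⟨fun e => by rw [← add_zero x, ← RankFourL32.add_self y, ← add_assoc, e, zero_add],
    fun e => by rw [e, RankFourL32.add_self]⟩

/-- A fixed line of `Q / W` with no invariant complement is impossible. -/
theorem exists_hyperplane (h : Setup Q) (hθ : Frame θ Q) (hc : Coords θ W ⊥ ℓ) (hWQ : W ≤ Q)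
    (hsq : ∀ q ∈ Q, q * q ∈ W) (hcard : Nat.card Q = 128) {a : G} (haQ : a ∈ Q) (haW : a ∉ W)
    (hafix : ∀ g : G, g * a * g⁻¹ * a⁻¹ ∈ W) :
    ∃ K : Subgroup G, K.Normal ∧ W ≤ K ∧ K ≤ Q ∧ Nat.card K = 64 := by
  haveI := hc.normal
  haveI := h.normal
  set mk := QuotientGroup.mk' W with hmk
  have hcW : ∀ q ∈ Q, ∀ w ∈ W, q * w = w * q := fun q hq w hw => hc.commute_base hθ hq hw
  have haw : ∀ w ∈ W, a * w * (a * w) = a * a := fun w hw => by
    rw [(show Commute w a from (hcW a haQ w hw).symm).mul_mul_mul_comm, hc.sq_eq_one hw, mul_one]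
  have ha2 : a * a = 1 := mem_bot.1 (hc.fixed_mem hθ (hsq a haQ) fun g => mem_bot.2 (by
    have e : g * a * g⁻¹ = a * (a⁻¹ * (g * a * g⁻¹ * a⁻¹) * a) := by group
    have hw : a⁻¹ * (g * a * g⁻¹ * a⁻¹) * a ∈ W := by
      have := hc.normal.conj_mem _ (hafix g) a⁻¹
      rwa [inv_inv] at this
    rw [← sq_conj, e, haw _ hw, mul_inv_cancel]))
  have hfixX : ∀ x : G ⧸ W, x * mk a * x⁻¹ = mk a := fun x => by
    induction x using QuotientGroup.induction_on with
    | _ g =>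
      show mk g * mk a * (mk g)⁻¹ = mk a
      refine mul_inv_eq_one.1 ?_
      rw [← map_inv, ← map_inv, ← map_mul, ← map_mul, ← map_mul]
      exact mk_eq_one.2 (hafix g)
  haveI hnz : (Subgroup.zpowers (mk a)).Normal := ⟨fun x hx g => by
    obtain ⟨i, rfl⟩ := mem_zpowers_iff.1 hx
    rw [← conj_zpow, hfixX]
    exact hx⟩
  have hJ2 : Nat.card (Subgroup.zpowers (mk a)) = 2 := by
    rw [Nat.card_zpowers]
    refine orderOf_eq_prime (by rw [pow_two, ← map_mul, ha2, map_one]) fun e => haW (mk_eq_one.1 e)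
  set J := (Subgroup.zpowers (mk a)).comap mk with hJdef
  have hJc : Nat.card J = 16 := by rw [hJdef, card_comap_mk, hJ2, hc.card_eq, card_bot]
  have haJ : a ∈ J := mem_comap.2 (mem_zpowers (mk a))
  have hWJ : W ≤ J := fun w hw => by
    rw [hJdef, mem_comap, hmk, mk_eq_one.2 hw]; exact one_mem _
  have hJcases : ∀ x ∈ J, x ∈ W ∨ a⁻¹ * x ∈ W := fun x hx => by
    obtain ⟨z, -, -, -, hzc⟩ := card_two_gen hJ2
    have hza : mk a = z := (hzc _ (mem_zpowers _)).resolve_left fun e => haW (mk_eq_one.1 e)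
    rcases hzc (mk x) (mem_comap.1 hx) with e | e
    · exact Or.inl (mk_eq_one.1 e)
    · refine Or.inr ((RankFourA5.mk_eq_one (N := W)).1 ?_)
      rw [← hmk, map_mul, map_inv, hza, e, inv_mul_cancel]
  have hJQ : J ≤ Q := fun x hx => by
    rcases hJcases x hx with e | e
    · exact hWQ e
    · simpa using mul_mem haQ (hWQ e)
  have hJsq : ∀ x ∈ J, x * x = 1 := fun x hx => by
    rcases hJcases x hx with e | e
    · exact hc.sq_eq_one e
    · rw [show x = a * (a⁻¹ * x) by group, haw _ e, ha2]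
  -- the commutator with `a`
  set ι : G → G := fun x => a * x * a⁻¹ * x⁻¹ with hι
  have hιW : ∀ x ∈ Q, ι x ∈ W := fun x hx => comm_mem hsq haQ hx
  have hιmul : ∀ x ∈ Q, ∀ y ∈ Q, ι (x * y) = ι x * ι y := fun x hx y hy => by
    show a * (x * y) * a⁻¹ * (x * y)⁻¹ = _
    rw [show a * (x * y) * a⁻¹ * (x * y)⁻¹ = (a * x * a⁻¹ * x⁻¹) * (x * ι y * x⁻¹) by
      simp only [hι]; group, hcW x hx _ (hιW y hy), mul_inv_cancel_right]
  have hιconj : ∀ g, ∀ x ∈ Q, ι (g * x * g⁻¹) = g * ι x * g⁻¹ := fun g x hx => by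
    have hgx := h.normal.conj_mem x hx g
    set w := g * a * g⁻¹ * a⁻¹ with hw
    have hwW : w ∈ W := hafix g
    have h1 : g * ι x * g⁻¹ = w * (a * (g * x * g⁻¹) * a⁻¹) * w⁻¹ * (g * x * g⁻¹)⁻¹ := by
      simp only [hι]; rw [hw]; group
    rw [h1, ← hcW _ (mul_mem (mul_mem haQ hgx) (inv_mem haQ)) w hwW, mul_inv_cancel_right]
  by_cases hι0 : ∀ x ∈ Q, ι x = 1
  · -- `J` is central in `Q`
    have hJcen : ∀ x ∈ J, ∀ k ∈ Q, k * x = x * k := fun x hx k hk => by
      rcases hJcases x hx with e | e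
      · exact hcW k hk x e
      · rw [show x = a * (a⁻¹ * x) by group]
        have hak : Commute k a := (mul_inv_eq_iff_eq_mul.1 (mul_inv_eq_one.1 (hι0 k hk))).symm
        exact (hak.mul_right (hcW k hk _ e)).eq
    obtain ⟨hab, hv⟩ := squares_coords h hθ hc hWQ Q J hWJ hJQ le_rfl hJsq hJcen hsq
      (fun q hq k hk => hWJ (comm_mem hsq hq hk)) (by rw [hcard, hJc])
    have hmJ : Mod Q J := ⟨inferInstance, hJQ, hJsq, fun q hq x hx => hJcen x hx q hq, by
      by_contra hno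
      push Not at hno
      obtain ⟨w, hw, hwd⟩ := hc.surj d
      have := hc.fixed_mem hθ hw fun g => mem_bot.2 (by rw [hno g w (hWJ hw)]; simp)
      exact d_ne_zero (hwd ▸ (hc.ker w hw).2 this)⟩
    rcases no_fixed_involution h hθ hmJ hc hWJ hJc with ⟨c, hcJ, hcW', hfix⟩ | hno
    · exact (fixed_false h hθ hc hWQ hsq hcard (hJQ hcJ) hcW' (hJsq c hcJ) hfix).elim
    set v : G → V3 := fun k => ℓ (k * k) with hvdef
    set cm : G → G → G := fun e k => e * k * e⁻¹ * k⁻¹ with hcm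
    have hcmQ : ∀ e, ∀ k ∈ Q, cm e k ∈ Q := fun e k hk => (hv.comm e hk).1
    have hclaim : ∀ e, e * e ∈ Q → ∀ k ∈ Q, cm e k ∈ J → cm e k ∈ W := fun e hee k hk hm => by
      by_cases heQ : e ∈ Q
      · simp only [hcm]; rw [hab e heQ k hk]; simp
      by_contra hmW
      refine hno e heQ hee _ hm hmW ?_
      have h2 : e * (e * k * e⁻¹) * e⁻¹ = k := by
        rw [show e * (e * k * e⁻¹) * e⁻¹ = e * e * k * (e * e)⁻¹ by group, hab _ hee k hk,
          mul_inv_cancel_right]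
      have h3 : e * cm e k * e⁻¹ = (cm e k)⁻¹ := by
        simp only [hcm]
        rw [show e * (e * k * e⁻¹ * k⁻¹) * e⁻¹ = e * (e * k * e⁻¹) * e⁻¹ * (e * k⁻¹ * e⁻¹) by group, h2]
        group
      rw [inv_eq_of_mul_eq_one_right (hJsq _ hm)] at h3
      exact mul_inv_eq_iff_eq_mul.1 h3
    have hinv : ∀ g, ∀ x ∈ Q, g * g ∈ Q → v (cm g x) = 0 → mk (g * x * g⁻¹) = mk x := fun g x hx hg h0 => by
      rw [← mul_inv_eq_one, ← map_inv, ← map_mul]
      exact mk_eq_one.2 (hclaim g hg x hx ((hv.ker _ (hcmQ g x hx)).1 h0))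
    have hsqX : ∀ x ∈ Q, mk x * mk x = 1 := fun x hx => by
      rw [← map_mul]; exact mk_eq_one.2 (hsq x hx)
    have hmul1 : ∀ e, ∀ k ∈ Q, ∀ k' ∈ Q, cm e (k * k') = cm e k * cm e k' := fun e k hk k' hk' => by
      simp only [hcm]
      rw [show e * (k * k') * e⁻¹ * (k * k')⁻¹ = e * k * e⁻¹ * (e * k' * e⁻¹ * k'⁻¹) * k⁻¹ by group,
        mul_assoc (e * k * e⁻¹), hab _ (hcmQ e k' hk') _ (inv_mem hk)]
      simp only [hcm, mul_assoc]
    have hmul2 : ∀ e e' k : G, cm (e * e') k = e * cm e' k * e⁻¹ * cm e k := fun e e' k => by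
      simp only [hcm]; group
    have huniq : ∀ e e' : G, ∀ T ∈ [mT1, mT2, mT3], ∀ T' ∈ [mT1, mT2, mT3], (θ e : M3) = T →
        (θ e' : M3) = T' → ∀ k ∈ Q, ∀ k' ∈ Q, T *ᵥ v k + v k = d → T' *ᵥ v k' + v k' = d →
          mk (cm e k) = mk (cm e' k') := by
      have heQ : ∀ e : G, ∀ T ∈ [mT1, mT2, mT3], (θ e : M3) = T → e * e ∈ Q := fun e T hT he =>
        hθ.mem_iff.2 (by rw [map_mul, Units.val_mul, he]; exact (list_facts.1 T hT).2)
      have hsame : ∀ e : G, ∀ T ∈ [mT1, mT2, mT3], (θ e : M3) = T → ∀ k ∈ Q, ∀ k' ∈ Q,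
          T *ᵥ v k + v k = d → T *ᵥ v k' + v k' = d → mk (cm e k) = mk (cm e k') := by
        intro e T hT he k hk k' hk' e1 e2
        have h0 : v (cm e (k * k')) = 0 := by
          rw [(hv.comm e (mul_mem hk hk')).2, he, hv.add k hk k' hk', mulVec_add, add_add_add_comm, e1,
            e2, RankFourL32.add_self]
        have h1 := mk_eq_one.2 (hclaim e (heQ e T hT he) _ (mul_mem hk hk')
          ((hv.ker _ (hcmQ e _ (mul_mem hk hk'))).1 h0))
        rw [← hmk, hmul1 e k hk k' hk', map_mul] at h1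
        rw [← inv_eq_of_mul_eq_one_right h1,
          inv_eq_of_mul_eq_one_right (hsqX _ (hcmQ e k hk))]
      intro e e' T hT T' hT' he he' k hk k' hk' e1 e2
      obtain ⟨y, hy, hy'⟩ := common_axis T hT T' hT'
      obtain ⟨z, hz, rfl⟩ := hv.surj y
      rw [hsame e T hT he k hk z hz e1 hy, hsame e' T' hT' he' k' hk' z hz e2 hy']
      have hee : e * e' * (e * e') ∈ Q := hθ.mem_iff.2 (by
        rw [map_mul, Units.val_mul, map_mul, Units.val_mul, he, he']
        exact list_facts.2 T hT T' hT')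
      have h0 : v (cm (e * e') z) = 0 := by
        rw [(hv.comm (e * e') hz).2, map_mul, Units.val_mul, he, he', ← mulVec_mulVec,
          add_eq_zero_iff]
        rw [show T' *ᵥ v z = v z + d by
          rw [← hy', add_comm (T' *ᵥ v z), ← add_assoc, RankFourL32.add_self, zero_add], mulVec_add,
          (list_facts.1 T hT).1]
        conv_lhs => arg 2; rw [← hy]
        rw [← add_assoc, RankFourL32.add_self, zero_add]
      have h1 := mk_eq_one.2 (hclaim _ hee z hz ((hv.ker _ (hcmQ _ z hz)).1 h0))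
      rw [← hmk, hmul2, map_mul] at h1
      have hvd : v (cm e (cm e' z)) = 0 := by
        rw [(hv.comm e (hcmQ e' z hz)).2, (hv.comm e' hz).2, he', hy', he, (list_facts.1 T hT).1,
          RankFourL32.add_self]
      rw [hinv e _ (hcmQ e' z hz) (heQ e T hT he) hvd] at h1
      rw [← inv_eq_of_mul_eq_one_right h1, inv_eq_of_mul_eq_one_right (hsqX _ (hcmQ e' z hz))]
    obtain ⟨f, -, hu, -, -⟩ := exists_f hθ
    obtain ⟨y, hy⟩ := vec_facts.2.2.2.1
    obtain ⟨k1, hk1, rfl⟩ := hv.surj y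
    refine hyperplane_of_section h hθ hc hWQ hsq J hv hWJ haJ hafix hJcases
      (hcmQ (f * f) k1 hk1) (by rw [(hv.comm _ hk1).2, hu, hy]) fun g hg => ?_
    set M : M3 := (θ g : M3) with hM
    have hdet : M.det = 1 := by
      haveI : Fact (Nat.Prime 2) := ⟨Nat.prime_two⟩
      exact (CfsgLib.A8.zmod_two_cases _).resolve_left
        ((Matrix.isUnit_iff_isUnit_det M).1 (θ g).isUnit).ne_zero
    obtain ⟨T', hT', hMT⟩ : ∃ T' ∈ [mT1, mT2, mT3], M * mT1 = T' * M := by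
      rcases conj_centre M hdet hg with e | e | e
      · exact ⟨mT1, by simp, e⟩
      · exact ⟨mT2, by simp, e⟩
      · exact ⟨mT3, by simp, e⟩
    have hθg : (θ (g * (f * f) * g⁻¹) : M3) = T' := Frame.conj_eq hu hMT
    have hk' := h.normal.conj_mem k1 hk1 g
    have hvk : T' *ᵥ v (g * k1 * g⁻¹) + v (g * k1 * g⁻¹) = d := by
      rw [hv.conj g k1 hk1, mulVec_mulVec, ← hMT, ← mulVec_mulVec, ← mulVec_add, hy, hg]
    have e := huniq _ _ T' hT' mT1 (by simp) hθg hu _ hk' k1 hk1 hvk hy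
    refine (RankFourA5.mk_eq_one (N := W)).1 ?_
    rw [← hmk, map_mul, map_inv, mul_inv_eq_one, ← e]
    congr 1
    simp only [hcm]; group
  · -- the commutator with `a` as coordinates
    push Not at hι0
    obtain ⟨x1, hx1, hx1'⟩ := hι0
    let Kι : Subgroup G :=
      { carrier := {x | x ∈ Q ∧ ι x = 1}
        one_mem' := ⟨one_mem Q, by simp [hι]⟩
        mul_mem' := fun {x y} hx hy => ⟨mul_mem hx.1 hy.1, by
          rw [hιmul x hx.1 y hy.1, hx.2, hy.2, one_mul]⟩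
        inv_mem' := fun {x} hx => ⟨inv_mem hx.1, by
          have := hιmul x hx.1 x⁻¹ (inv_mem hx.1)
          rw [mul_inv_cancel, hx.2, one_mul] at this
          rw [← this]; simp [hι]⟩ }
    have hJK : J ≤ Kι := fun x hx => ⟨hJQ hx, by
      rcases hJcases x hx with e | e
      · simp only [hι]; rw [hcW a haQ x e]; group
      · rw [show x = a * (a⁻¹ * x) by group, hιmul a haQ _ (hWQ e)]
        simp only [hι]
        rw [hcW a haQ _ e]; group⟩
    have hne : ℓ (ι x1) ≠ 0 := fun e => hx1' (mem_bot.1 ((hc.ker _ (hιW x1 hx1)).1 e))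
    set v : G → V3 := fun x => ℓ (ι x) with hvdef
    have hv : Coords θ Q Kι v := by
      refine ⟨h.normal, fun x hx => hx.1, fun x hx y hy => ?_, fun g x hx => ?_, fun w => ?_,
        fun x hx => ?_⟩
      · show ℓ _ = _
        rw [hιmul x hx y hy, hc.add _ (hιW x hx) _ (hιW y hy)]
      · show ℓ _ = _
        rw [hιconj g x hx, hc.conj g _ (hιW x hx)]
      · by_cases hw : w = 0
        · refine ⟨1, one_mem Q, ?_⟩
          show ℓ (a * 1 * a⁻¹ * 1⁻¹) = w
          simp [hw, hc.map_one]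
        obtain ⟨M, hM, hMw⟩ := transitive _ w hne hw
        obtain ⟨g, hg⟩ := hθ.lift hM
        refine ⟨g * x1 * g⁻¹, h.normal.conj_mem x1 hx1 g, ?_⟩
        show ℓ _ = w
        rw [hιconj g x1 hx1, hc.conj g _ (hιW x1 hx1), hg, hMw]
      · show ℓ _ = 0 ↔ _
        rw [hc.ker _ (hιW x hx), mem_bot]
        exact ⟨fun e => ⟨hx, e⟩, fun e => e.2⟩
    have hKJ : J = Kι := eq_of_le_of_card_ge hJK (by
      have := hv.card_eq
      rw [hcard] at this
      omega)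
    rw [← hKJ] at hv
    obtain ⟨x, hx, hvx⟩ := hv.surj d
    have hshift : ∀ y ∈ Q, ∀ j ∈ J, a⁻¹ * j ∈ W → ℓ (y * j * (y * j)) = ℓ (y * y) + v y := by
      intro y hy j hj e
      have h1 : y * j * (y * j) = y * y * ((y⁻¹ * j * y) * j) := by group
      have hw : a⁻¹ * j ∈ W := e
      have h2 : y⁻¹ * j * y = y⁻¹ * a * y * (a⁻¹ * j) := by
        calc y⁻¹ * j * y = y⁻¹ * a * ((a⁻¹ * j) * y) := by group
          _ = y⁻¹ * a * (y * (a⁻¹ * j)) := by rw [hcW y hy _ hw]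
          _ = _ := by group
      have h3 : y⁻¹ * j * y * j = (ι y⁻¹)⁻¹ := by
        rw [h2, show j = a * (a⁻¹ * j) by group, mul_assoc (y⁻¹ * a * y),
          show a⁻¹ * (a * (a⁻¹ * j)) = a⁻¹ * j by group,
          show a⁻¹ * j * (a * (a⁻¹ * j)) = (a⁻¹ * j) * a * (a⁻¹ * j) by group,
          ← hcW a haQ _ hw, mul_assoc a, hc.sq_eq_one hw, mul_one]
        simp only [hι]
        rw [show (a * y⁻¹ * a⁻¹ * y⁻¹⁻¹)⁻¹ = y⁻¹ * a * y * a⁻¹ by group,
          inv_eq_of_mul_eq_one_right ha2]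
      have hyi := inv_mem hy
      rw [h1, h3, hc.add _ (hsq y hy) _ (inv_mem (hιW _ hyi)), hc.map_inv (hιW _ hyi)]
      congr 1
      exact hv.map_inv hy
    have hq : ∀ y ∈ Q, ∀ j ∈ J, ℓ (y * j * (y * j)) = ℓ (y * y) ∨
        ℓ (y * j * (y * j)) = ℓ (y * y) + v y := fun y hy j hj => by
      rcases hJcases j hj with e | e
      · left
        rw [(show Commute j y from (hcW y hy j e).symm).mul_mul_mul_comm, hc.sq_eq_one e, mul_one]
      · exact Or.inr (hshift y hy j hj e)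
    have hqx : ℓ (x * x) = 0 ∨ ℓ (x * x) = d := fixed_stab_pair _ fun M hM hMd => by
      obtain ⟨g, hg⟩ := hθ.lift hM
      have hgx := h.normal.conj_mem x hx g
      have hj : x⁻¹ * (g * x * g⁻¹) ∈ J := (hv.eq_iff hx hgx).1 (by
        rw [hv.conj g x hx, hg, hvx, hMd])
      have hh := hq x hx _ hj
      rw [mul_inv_cancel_left, sq_conj, hc.conj g _ (hsq x hx), hg, hvx] at hh
      exact hh
    obtain ⟨x0, hx0, hv0, hq0⟩ : ∃ x0 ∈ Q, v x0 = d ∧ ℓ (x0 * x0) = 0 := by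
      rcases hqx with e | e
      · exact ⟨x, hx, hvx, e⟩
      · refine ⟨x * a, mul_mem hx haQ, ?_, ?_⟩
        · rw [hv.add x hx a haQ, hvx, (hv.ker a haQ).2 haJ, add_zero]
        · rw [hshift x hx a haJ (by simp), e, hvx, RankFourL32.add_self]
    refine hyperplane_of_section h hθ hc hWQ hsq J hv hWJ haJ hafix hJcases hx0 hv0 fun g hg => ?_
    have hgx := h.normal.conj_mem x0 hx0 g
    have hj : x0⁻¹ * (g * x0 * g⁻¹) ∈ J := (hv.eq_iff hx0 hgx).1 (by
      rw [hv.conj g x0 hx0, hv0, hg])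
    rcases hJcases _ hj with e | e
    · have := hc.normal.conj_mem _ e x0
      simpa [mul_assoc] using this
    · exfalso
      have hh := hshift x0 hx0 _ hj e
      rw [mul_inv_cancel_left, sq_conj, hc.conj g _ (hsq x0 hx0), hq0, hv0, mulVec_zero, zero_add] at hh
      exact d_ne_zero hh.symm

/-- A natural module below an elementary factor is impossible. -/
theorem natural_false (h : Setup Q) (hθ : Frame θ Q) (hc : Coords θ W ⊥ ℓ) (hWQ : W ≤ Q)
    (hsq : ∀ q ∈ Q, q * q ∈ W) (h16 : 16 < Nat.card Q) : False := by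
  haveI := hc.normal
  haveI := h.normal
  have hW8 : Nat.card W = 8 := by rw [hc.card_eq, card_bot]
  have hcW : ∀ q ∈ Q, ∀ w ∈ W, q * w = w * q := fun q hq w hw => hc.commute_base hθ hq hw
  set mk := QuotientGroup.mk' W with hmk
  have hV : Mod (Q.map mk) (Q.map mk) := by
    have hsqX : ∀ x ∈ Q.map mk, x * x = 1 := by
      rintro _ ⟨q, hq, rfl⟩
      rw [← map_mul]; exact mk_eq_one.2 (hsq q hq)
    refine ⟨h.normal.map mk (QuotientGroup.mk'_surjective W), le_rfl, hsqX,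
      fun q hq x hx => comm_of_sq hsqX hq hx, ?_⟩
    by_contra hno
    push Not at hno
    refine exp_two_false h (A := Q) (fun q hq => mem_bot.1 (hc.fixed_mem hθ (hsq q hq) fun g =>
      mem_bot.2 ?_)) (by
        obtain ⟨j, hj⟩ := IsPGroup.iff_card.1 (haveI : Fact (Nat.Prime 2) := ⟨Nat.prime_two⟩; h.pgroup)
        rw [hj] at h16 ⊢
        by_contra hlt
        have : j ≤ 4 := by
          by_contra hj4
          exact hlt (le_trans (by norm_num) (Nat.pow_le_pow_right (by norm_num) (show 5 ≤ j by omega)))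
        have := Nat.pow_le_pow_right (show 0 < 2 by norm_num) this
        omega)
    have h1 := hno (mk g) (mk q) (mem_map_of_mem _ hq)
    have e : g * q * g⁻¹ = q * (q⁻¹ * (g * q * g⁻¹)) := by group
    have hw : q⁻¹ * (g * q * g⁻¹) ∈ W := mk_eq_one.1 (by
      rw [← hmk, map_mul, map_mul, map_mul, map_inv, map_inv, h1]; group)
    rw [← sq_conj, e, (show Commute (q⁻¹ * (g * q * g⁻¹)) q from (hcW q hq _ hw).symm).mul_mul_mul_comm,
      hc.sq_eq_one hw, mul_one, mul_inv_cancel]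
  have hcomap : (Q.map mk).comap mk = Q := by ext g; exact mem_map_mk hWQ
  have hcardQ := card_comap_mk W (Q.map mk)
  rw [← hmk, hcomap, hW8] at hcardQ
  rcases card_mod (h.quotient W hWQ) hV with e | e
  · exact core h hθ hc hWQ hsq (by rw [hcardQ, e])
  have hcard : Nat.card Q = 128 := by rw [hcardQ, e]
  obtain ⟨K, hKn, hWK, hKQ, hK64⟩ : ∃ K : Subgroup G, K.Normal ∧ W ≤ K ∧ K ≤ Q ∧ Nat.card K = 64 := by
    rcases sixteen (h.quotient W hWQ) hV e with ⟨c, hc', hc1, hfix⟩ | ⟨U, hUn, hUle, hU8⟩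
    · obtain ⟨a, ha, rfl⟩ := mem_map.1 hc'
      refine exists_hyperplane h hθ hc hWQ hsq hcard ha (fun m => hc1 (mk_eq_one.2 m)) fun g =>
        (RankFourA5.mk_eq_one (N := W)).1 ?_
      rw [← hmk, map_mul, map_mul, map_mul, map_inv, map_inv, hfix (mk g)]
      group
    · refine ⟨U.comap mk, hUn.comap mk, fun x hx => ?_, fun x hx => (mem_map_mk hWQ).1 (hUle hx), ?_⟩
      · rw [mem_comap, hmk, mk_eq_one.2 hx]; exact one_mem U
      · rw [card_comap_mk, hW8, hU8]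
  haveI := hKn
  have hidx2 : ∀ {a b : G}, a ∈ Q → b ∈ Q → (a * b ∈ K ↔ (a ∈ K ↔ b ∈ K)) := fun ha hb =>
    index_two_mul hKQ (by rw [hcard, hK64]) ha hb
  obtain ⟨hab, hv⟩ := squares_coords h hθ hc hWQ K W le_rfl hWK hKQ (fun x hx => hc.sq_eq_one hx)
    (fun x hx k hk => hcW k (hKQ hk) x hx) (fun k hk => hsq k (hKQ hk))
    (fun q hq k hk => comm_mem hsq hq (hKQ hk)) (by rw [hK64, hW8])
  by_cases hlift : ∃ e : G, e ∉ Q ∧ e * e ∈ K
  · obtain ⟨G0, hKG, hθ0, hS0⟩ := split h hθ K hKQ (fun g q hq => by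
      have hgq := h.normal.conj_mem q hq g
      refine (hidx2 hgq (inv_mem hq)).2 ?_
      rw [inv_mem_iff]
      exact ⟨fun hm => by simpa [mul_assoc] using hKn.conj_mem _ hm g⁻¹, fun hm => hKn.conj_mem q hm g⟩)
      (fun q hq => (hidx2 hq hq).2 Iff.rfl) hlift
    exact core hS0 hθ0 (by simpa using hc.sub G0 (hWK.trans hKG)) (comap_mono hWK)
      (fun q hq => hsq _ (hKQ hq)) (by rw [Nat.card_congr (subgroupOfEquivOfLe hKG).toEquiv, hK64])
  push Not at hlift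
  obtain ⟨f, hf, hu, ha0Q, huQ⟩ := exists_f hθ
  set u := f * f with hudef
  set a0 := u * u with ha0def
  have ha0K : a0 ∉ K := hlift u huQ
  have hQK : ∀ q ∈ Q, q ∈ K ∨ a0⁻¹ * q ∈ K := fun q hq => by
    by_cases hqK : q ∈ K
    · exact Or.inl hqK
    · exact Or.inr ((hidx2 (inv_mem ha0Q) hq).2 (iff_of_false (fun m => ha0K (inv_mem_iff.1 m)) hqK))
  set v : G → V3 := fun k => ℓ (k * k) with hvdef
  set Γ : G → G := fun k => a0 * k * a0⁻¹ * k⁻¹ with hΓ
  have hΓW : ∀ k ∈ K, Γ k ∈ W := fun k hk => comm_mem hsq ha0Q (hKQ hk)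
  have hΓw : ∀ k ∈ K, ∀ w ∈ W, Γ (k * w) = Γ k := fun k hk w hw => by
    simp only [hΓ]
    rw [show a0 * (k * w) * a0⁻¹ * (k * w)⁻¹ = a0 * k * (w * a0⁻¹) * w⁻¹ * k⁻¹ by group,
      ← hcW a0⁻¹ (inv_mem ha0Q) w hw]
    group
  have hΓconj : ∀ g, ∀ k ∈ K, Γ (g * k * g⁻¹) = g * Γ k * g⁻¹ := fun g k hk => by
    have hgk := hKn.conj_mem k hk g
    have hga := h.normal.conj_mem a0 ha0Q g
    have hk' : a0⁻¹ * (g * a0 * g⁻¹) ∈ K :=
      (hQK _ hga).resolve_left fun hm => ha0K (by simpa [mul_assoc] using hKn.conj_mem _ hm g⁻¹)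
    set k' := a0⁻¹ * (g * a0 * g⁻¹) with hk'def
    have e1 : g * Γ k * g⁻¹ = a0 * (k' * (g * k * g⁻¹) * k'⁻¹) * a0⁻¹ * (g * k * g⁻¹)⁻¹ := by
      simp only [hΓ]; rw [hk'def]; group
    rw [e1, hab k' hk' _ hgk, mul_inv_cancel_right]
  obtain ⟨k1, hk1, hv1⟩ := hv.surj ![0, 1, 0]
  have hΓ1 : Γ k1 = 1 := by
    have hm := hv.comm u hk1
    have hmW : u * k1 * u⁻¹ * k1⁻¹ ∈ W := (hv.ker _ hm.1).1 (by
      rw [hm.2, hu, hv1]; decide +kernel)
    have e1 : Γ k1 = u * (u * k1 * u⁻¹ * k1⁻¹) * u⁻¹ * (u * k1 * u⁻¹ * k1⁻¹) := by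
      simp only [hΓ]; rw [ha0def]; group
    have h1 : ℓ (Γ k1) = 0 ∨ ℓ (Γ k1) = d := by
      rw [e1, hc.add _ (hc.normal.conj_mem _ hmW u) _ hmW, hc.conj u _ hmW, hu]
      exact (vec_facts.2.1 _).1
    have h2 : ℓ (Γ k1) = 0 ∨ ℓ (Γ k1) = ![0, 1, 0] := fixed_stab _ _ fun M hM hMx => by
      obtain ⟨g, hg⟩ := hθ.lift hM
      have hgk := hKn.conj_mem k1 hk1 g
      have hw := (hv.eq_iff hk1 hgk).1 (by rw [hv.conj g k1 hk1, hg, hv1, hMx])
      have e := hΓw k1 hk1 _ hw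
      rw [mul_inv_cancel_left, hΓconj g k1 hk1] at e
      rw [← hg, ← hc.conj g _ (hΓW k1 hk1), e]
    have h0 : ℓ (Γ k1) = 0 := by
      rcases h1 with e | e
      · exact e
      · rcases h2 with e' | e'
        · exact e'
        · rw [e] at e'; exact absurd e' d_ne_y
    exact mem_bot.1 ((hc.ker _ (hΓW k1 hk1)).1 h0)
  have hΓ0 : ∀ k ∈ K, Γ k = 1 := fun k hk => by
    by_cases hk0 : v k = 0
    · have hkW := (hv.ker k hk).1 hk0
      simp only [hΓ]
      rw [hcW a0 ha0Q k hkW]; group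
    obtain ⟨M, hM, hMk⟩ := transitive ![0, 1, 0] (v k) (by decide) hk0
    obtain ⟨g, hg⟩ := hθ.lift hM
    have hgk := hKn.conj_mem k1 hk1 g
    have hw := (hv.eq_iff hgk hk).1 (by rw [hv.conj g k1 hk1, hg, hv1, hMk])
    have e := hΓw _ hgk _ hw
    rw [mul_inv_cancel_left] at e
    rw [e, hΓconj g k1 hk1, hΓ1]; group
  have ha0c : ∀ k ∈ K, Commute a0 k := fun k hk =>
    mul_inv_eq_iff_eq_mul.1 (mul_inv_eq_one.1 (hΓ0 k hk))
  have habQ : ∀ x ∈ Q, ∀ y ∈ Q, x * y = y * x := fun x hx y hy => by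
    have hone : ∀ y ∈ Q, Commute a0 y := fun y hy => by
      rcases hQK y hy with e | e
      · exact ha0c y e
      · rw [show y = a0 * (a0⁻¹ * y) by group]
        exact (Commute.refl a0).mul_right (ha0c _ e)
    have hK' : ∀ k ∈ K, Commute k y := fun k hk => by
      rcases hQK y hy with e | e
      · exact hab k hk y e
      · rw [show y = a0 * (a0⁻¹ * y) by group]
        exact (ha0c k hk).symm.mul_right (hab k hk _ e)
    rcases hQK x hx with e | e
    · exact hK' x e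
    · rw [show x = a0 * (a0⁻¹ * x) by group]
      exact ((hone y hy).mul_left (hK' _ e)).eq
  -- the kernel of squaring
  let J : Subgroup G :=
    { carrier := {x | x ∈ Q ∧ x * x = 1}
      one_mem' := ⟨one_mem Q, one_mul 1⟩
      mul_mem' := fun {x y} hx hy => ⟨mul_mem hx.1 hy.1, by
        rw [sq_mul habQ hx.1 hy.1, hx.2, hy.2, one_mul]⟩
      inv_mem' := fun {x} hx => ⟨inv_mem hx.1, by rw [← _root_.mul_inv_rev, hx.2, inv_one]⟩ }
  haveI hJn : J.Normal := ⟨fun x hx g => ⟨h.normal.conj_mem x hx.1 g, by rw [sq_conj, hx.2]; simp⟩⟩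
  have hvQ : Coords θ Q J v := by
    refine ⟨h.normal, fun x hx => hx.1, fun x hx y hy => ?_, fun g x hx => ?_, fun w => ?_, fun x hx => ?_⟩
    · show ℓ _ = _
      rw [sq_mul habQ hx hy, hc.add _ (hsq x hx) _ (hsq y hy)]
    · show ℓ _ = _
      rw [sq_conj, hc.conj g _ (hsq x hx)]
    · obtain ⟨k, hk, hkw⟩ := hv.surj w
      exact ⟨k, hKQ hk, hkw⟩
    · show ℓ _ = 0 ↔ _
      rw [hc.ker _ (hsq x hx), mem_bot]
      exact ⟨fun e => ⟨hx, e⟩, fun e => e.2⟩
  have hWJ : W ≤ J := fun w hw => ⟨hWQ hw, hc.sq_eq_one hw⟩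
  have hJc : Nat.card J = 16 := by
    have := hvQ.card_eq
    rw [hcard] at this
    omega
  have hmJ : Mod Q J := ⟨hJn, fun x hx => hx.1, fun x hx => hx.2, fun q hq x hx => habQ q hq x hx.1, by
    by_contra hno
    push Not at hno
    obtain ⟨w, hw, hwd⟩ := hc.surj d
    have := hc.fixed_mem hθ hw fun g => mem_bot.2 (by rw [hno g w (hWJ hw)]; simp)
    exact d_ne_zero (hwd ▸ (hc.ker w hw).2 this)⟩
  rcases no_fixed_involution h hθ hmJ hc hWJ hJc with ⟨c, hcJ, hcW', hfix⟩ | hno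
  · exact fixed_false h hθ hc hWQ hsq hcard hcJ.1 hcW' hcJ.2 hfix
  have hfa : f * a0 * f⁻¹ = a0 := by rw [ha0def, hudef]; group
  have hua : u * a0 = a0 * u := by rw [ha0def]; group
  rcases vec_facts.1 (v a0) (by rw [← hf, ← hvQ.conj f a0 ha0Q, hfa]) with e0 | e0
  · exact hno u huQ ha0Q a0 ((hvQ.ker a0 ha0Q).1 e0) (fun m => ha0K (hWK m)) hua
  obtain ⟨y, hy⟩ := vec_facts.2.2.2.1
  obtain ⟨k, hk, rfl⟩ := hv.surj y
  obtain ⟨w, hw, hwy⟩ := hc.surj (v k)
  set a := k⁻¹ * (u * k * u⁻¹) with hadef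
  have haK : a ∈ K := mul_mem (inv_mem hk) (hKn.conj_mem k hk u)
  have hva : v a = d := by
    rw [hadef, hv.add _ (inv_mem hk) _ (hKn.conj_mem k hk u), hv.map_inv hk, hv.conj u k hk, hu,
      add_comm, hy]
  have hua' : u * a * u⁻¹ = a⁻¹ := by
    have h2 : u * (u * k * u⁻¹) * u⁻¹ = k := by
      rw [show u * (u * k * u⁻¹) * u⁻¹ = a0 * k * a0⁻¹ by rw [ha0def]; group, (ha0c k hk).eq,
        mul_inv_cancel_right]
    rw [hadef, show u * (k⁻¹ * (u * k * u⁻¹)) * u⁻¹ = (u * k * u⁻¹)⁻¹ * (u * (u * k * u⁻¹) * u⁻¹) by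
      group, h2]
    group
  set j := a0 * a⁻¹ with hjdef
  have hjQ : j ∈ Q := mul_mem ha0Q (inv_mem (hKQ haK))
  have hjJ : j ∈ J := (hvQ.ker j hjQ).1 (by
    rw [hjdef, hvQ.add _ ha0Q _ (inv_mem (hKQ haK)), hvQ.map_inv (hKQ haK), e0, hva,
      RankFourL32.add_self])
  have hjK : j ∉ K := fun hm => ha0K (by simpa [hjdef] using mul_mem hm haK)
  refine hno u huQ ha0Q (j * w) (mul_mem hjJ (hWJ hw)) (fun hm => hjK (hWK (by
    simpa using mul_mem hm (inv_mem hw)))) ?_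
  have h1 : u * j * u⁻¹ = j * (a * a) := by
    rw [hjdef, show u * (a0 * a⁻¹) * u⁻¹ = u * a0 * u⁻¹ * (u * a * u⁻¹)⁻¹ by group, hua,
      mul_inv_cancel_right, hua', inv_inv]
    group
  have h2 : a * a * (u * w * u⁻¹) = w := by
    have hm1 := mul_mem (hsq a (hKQ haK)) (hc.normal.conj_mem w hw u)
    refine (inv_mul_eq_one.1 (mem_bot.1 ((hc.eq_iff hm1 hw).1 ?_)))
    rw [hc.add _ (hsq a (hKQ haK)) _ (hc.normal.conj_mem w hw u), hc.conj u w hw, hu, hwy]
    rw [show ℓ (a * a) = d from hva]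
    conv_lhs => arg 1; rw [← hy]
    rw [add_comm, ← add_assoc, RankFourL32.add_self, zero_add]
  refine mul_inv_eq_iff_eq_mul.1 ?_
  rw [show u * (j * w) * u⁻¹ = u * j * u⁻¹ * (u * w * u⁻¹) by group, h1, mul_assoc, h2]

end CfsgLib.RankFourL32
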