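import Cfsg.Agent.Lib.RankFourL32.Base
import Cfsg.Agent.Lib.PGroup.DihedralWreath.Model

/-!
Removing an elementary central factor by transfer to a Sylow `2`-subgroup.
-/

set_option autoImplicit false
set_option linter.unusedSectionVars false
set_option linter.style.haveILetI false

open scoped Classical

namespace CfsgLib.RankFourL32

open Subgroup Matrix RankFourA5

variable {G : Type*} [Group G] [Finite G] {Q : Subgroup G} {θ : G →* GL (Fin 3) (ZMod 2)}

theorem noSection_subgroup (h : NoSection G) (G0 : Subgroup G) : NoSection G0 := by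
  intro H N hNH hn hcm hs
  have hcard : ∀ K : Subgroup G0, Nat.card (K.map G0.subtype) = Nat.card K := fun K =>
    (Nat.card_congr (K.equivMapOfInjective _ G0.subtype_injective).toEquiv).symm
  have := h (H.map G0.subtype) (N.map G0.subtype) (Subgroup.map_mono hNH) ?_ ?_ ?_
  · rwa [hcard, hcard] at this
  · rintro _ ⟨a, ha, rfl⟩ _ ⟨b, hb, rfl⟩
    exact ⟨a * b * a⁻¹, hn a ha b hb, by simp⟩
  · rintro _ ⟨a, ha, rfl⟩ _ ⟨b, hb, rfl⟩
    exact ⟨a * b * a⁻¹ * b⁻¹, hcm a ha b hb, by simp⟩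
  · rintro _ ⟨a, ha, rfl⟩
    exact ⟨a * a, hs a ha, by simp⟩

/-- The splitting of a central elementary factor. -/
theorem split (h : Setup Q) (hθ : Frame θ Q) (R : Subgroup G) [R.Normal] (hRQ : R ≤ Q)
    (hcent : ∀ g : G, ∀ q ∈ Q, g * q * g⁻¹ * q⁻¹ ∈ R) (hsq : ∀ q ∈ Q, q * q ∈ R)
    (he : ∃ e : G, e ∉ Q ∧ e * e ∈ R) :
    ∃ G0 : Subgroup G, R ≤ G0 ∧ Frame (θ.comp G0.subtype) (R.subgroupOf G0) ∧
      Setup (R.subgroupOf G0) := by
  set mk := QuotientGroup.mk' R with hmk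
  obtain ⟨θb, hθb, hθe⟩ := hθ.quotient R hRQ
  set C := Q.map mk with hC
  have hcC : ∀ c ∈ C, ∀ x : G ⧸ R, x * c = c * x := by
    rintro _ ⟨q, hq, rfl⟩ x
    induction x using QuotientGroup.induction_on with
    | _ g =>
      show mk g * mk q = mk q * mk g
      have h1 := mk_eq_one.2 (hcent g q hq)
      rw [← hmk, map_mul, map_mul, map_mul, map_inv, map_inv] at h1
      exact mul_inv_eq_iff_eq_mul.1 (mul_inv_eq_one.1 h1)
  have hsqC : ∀ c ∈ C, c * c = 1 := by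
    rintro _ ⟨q, hq, rfl⟩
    rw [← map_mul]; exact mk_eq_one.2 (hsq q hq)
  have hθm : ∀ g, θb (mk g) = θ g := hθe
  -- involutions above the generators of a Sylow subgroup
  obtain ⟨e, heQ, hee⟩ := he
  have hM : (θ e : M3) * (θ e : M3) = 1 := by
    rw [← Units.val_mul, ← map_mul]; exact hθ.mem_iff.1 (hRQ hee)
  obtain ⟨⟨N1, hN1, h1⟩, ⟨N2, hN2, h2⟩, ⟨N3, hN3, h3⟩⟩ :=
    conj_involution _ hM (fun e1 => heQ (hθ.mem_iff.2 e1))
  obtain ⟨g1, hg1⟩ := hθ.lift hN1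
  obtain ⟨g2, hg2⟩ := hθ.lift hN2
  obtain ⟨g3, hg3⟩ := hθ.lift hN3
  have hinv : ∀ g : G, mk (g * e * g⁻¹) * mk (g * e * g⁻¹) = 1 := fun g => by
    rw [← map_mul, show g * e * g⁻¹ * (g * e * g⁻¹) = g * (e * e) * g⁻¹ by group]
    exact mk_eq_one.2 (Subgroup.Normal.conj_mem inferInstance _ hee g)
  set s := mk (g1 * e * g1⁻¹) with hs
  set e' := mk (g2 * e * g2⁻¹) with he'
  have hθs : (θb s : M3) = mS := by
    rw [hs, hθm]
    exact Frame.conj_eq rfl (by rw [hg1, h1])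
  have hθe' : (θb e' : M3) = mE := by
    rw [he', hθm]
    exact Frame.conj_eq rfl (by rw [hg2, h2])
  set ρ := s * e' with hρ
  have hθρ : (θb ρ : M3) = mS * mE := by rw [map_mul, Units.val_mul, hθs, hθe']
  have hρ4 : ρ ^ 4 = 1 := by
    have hq : (ρ * ρ)⁻¹ * mk (g3 * e * g3⁻¹) ∈ C := by
      refine hθb.mem_iff.2 ?_
      have e3 : (θb (mk (g3 * e * g3⁻¹)) : M3) = (θb (ρ * ρ) : M3) := by
        rw [hθm, map_mul θb, Units.val_mul, hθρ]
        exact Frame.conj_eq rfl (by rw [hg3, h3])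
      rw [map_mul θb, Units.val_mul, e3]
      exact Frame.mul_inv (θ := θb) (ρ * ρ)
    have hqi := inv_mem hq
    have e4 : ρ * ρ = mk (g3 * e * g3⁻¹) * ((ρ * ρ)⁻¹ * mk (g3 * e * g3⁻¹))⁻¹ := by
      rw [_root_.mul_inv_rev, inv_inv, mul_inv_cancel_left]
    calc ρ ^ 4 = ρ * ρ * (ρ * ρ) := by simp only [pow_succ, pow_zero, one_mul, mul_assoc]
      _ = mk (g3 * e * g3⁻¹) * mk (g3 * e * g3⁻¹) *
          (((ρ * ρ)⁻¹ * mk (g3 * e * g3⁻¹))⁻¹ * ((ρ * ρ)⁻¹ * mk (g3 * e * g3⁻¹))⁻¹) := by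
        conv_lhs => rw [e4]
        exact ((show Commute (((ρ * ρ)⁻¹ * mk (g3 * e * g3⁻¹))⁻¹) (mk (g3 * e * g3⁻¹)) from
          (hcC _ hqi _).symm)).mul_mul_mul_comm _ _
      _ = 1 := by rw [hinv g3, hsqC _ hqi, one_mul]
  obtain ⟨ψ, hψr, hψs⟩ := PGroup.DihedralWreath.exists_dihedral_lift (n := 4) hρ4 (hinv g1) (by
    rw [hρ, _root_.mul_inv_rev, inv_eq_of_mul_eq_one_right (hinv g2), ← hs,
      inv_eq_of_mul_eq_one_right (a := s) (hinv g1), ← mul_assoc s s e', hinv g1, one_mul])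
  set δ := θb.comp ψ with hδ
  have hr : ∀ i : ZMod 4, ψ (.r i) = ρ ^ i.val := fun i => by
    rw [← hψr, ← map_pow, DihedralGroup.r_one_pow, ZMod.natCast_zmod_val]
  have hδinj : Function.Injective δ := by
    rw [injective_iff_map_eq_one]
    rintro (i | i) hx
    · have h1' := congrArg Units.val hx
      rw [hδ, MonoidHom.comp_apply, hr, map_pow, Units.val_pow_eq_pow_val, hθρ, Units.val_one] at h1'
      rw [(syl_injective i).1 h1']
      rfl
    · have h1' := congrArg Units.val hx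
      rw [show DihedralGroup.sr i = DihedralGroup.sr 0 * DihedralGroup.r i by simp, hδ,
        MonoidHom.comp_apply, map_mul, hψs, hr, map_mul, map_pow, Units.val_mul,
        Units.val_pow_eq_pow_val, hθρ, hθs, Units.val_one] at h1'
      exact absurd h1' (syl_injective i).2
  have hD8 : Nat.card δ.range = 8 := by
    rw [← Nat.card_congr (MonoidHom.ofInjective hδinj).toEquiv, DihedralGroup.nat_card]
  set S := δ.range.comap θb with hS
  have hidx : S.index = 21 := by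
    rw [hS, index_comap_of_surjective _ hθb.surj]
    have := card_mul_index δ.range
    rw [hD8, card_gl] at this
    omega
  let dd : S →* DihedralGroup 4 :=
    (MonoidHom.ofInjective hδinj).symm.toMonoidHom.comp (θb.subgroupComap δ.range)
  have hdd : ∀ y : S, δ (dd y) = θb y := fun y =>
    congrArg Subtype.val ((MonoidHom.ofInjective hδinj).apply_symm_apply _)
  letI : CommGroup C :=
    { (inferInstance : Group C) with mul_comm := fun a b => Subtype.ext (hcC b b.2 a) }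
  have hmem : ∀ y : S, (y : G ⧸ R) * (ψ (dd y))⁻¹ ∈ C := fun y => hθb.mem_iff.2 (by
    rw [map_mul, map_inv, show θb (ψ (dd y)) = θb y from hdd y, mul_inv_cancel, Units.val_one])
  let φ : S →* C :=
    { toFun := fun y => ⟨y * (ψ (dd y))⁻¹, hmem y⟩
      map_one' := Subtype.ext (by show (1 : G ⧸ R) * _ = 1; rw [map_one dd, map_one ψ, inv_one, one_mul])
      map_mul' := fun a b => Subtype.ext (by
        show (a : G ⧸ R) * b * (ψ (dd (a * b)))⁻¹ = (a * (ψ (dd a))⁻¹) * ((b : G ⧸ R) * (ψ (dd b))⁻¹)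
        rw [map_mul dd, map_mul ψ, _root_.mul_inv_rev]
        have := hcC _ (hmem b) ((ψ (dd a))⁻¹)
        calc (a : G ⧸ R) * b * ((ψ (dd b))⁻¹ * (ψ (dd a))⁻¹)
            = a * ((b * (ψ (dd b))⁻¹) * (ψ (dd a))⁻¹) := by group
          _ = a * ((ψ (dd a))⁻¹ * (b * (ψ (dd b))⁻¹)) := by rw [this]
          _ = _ := by group) }
  haveI : S.FiniteIndex := inferInstance
  let τ := MonoidHom.transfer φ
  have hτ : ∀ c (hc : c ∈ C), τ c = ⟨c, hc⟩ := by
    intro c hc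
    have key : ∀ (k : ℕ) (g₀ : G ⧸ R), g₀⁻¹ * c ^ k * g₀ ∈ S → g₀⁻¹ * c ^ k * g₀ = c ^ k :=
      fun k g₀ _ => by rw [mul_assoc, ← hcC _ (pow_mem hc k) g₀, inv_mul_cancel_left]
    show MonoidHom.transfer φ c = _
    rw [MonoidHom.transfer_eq_pow φ c key]
    refine Subtype.ext ?_
    show c ^ S.index * (ψ (dd ⟨c ^ S.index, _⟩))⁻¹ = c
    have h21 : c ^ S.index = c := by
      rw [hidx, show 21 = 2 * 10 + 1 from rfl, pow_succ, pow_mul, pow_two, hsqC c hc, one_pow, one_mul]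
    have hd1 : ∀ hm, dd ⟨c ^ S.index, hm⟩ = 1 := fun hm => hδinj (by
      rw [hdd, map_one]
      show θb (c ^ S.index) = 1
      rw [h21]
      exact MonoidHom.mem_ker.1 (by rw [hθb.ker]; exact hc))
    rw [hd1, map_one, inv_one, mul_one, h21]
  let G0 : Subgroup G := τ.ker.comap mk
  have hG0 : ∀ g, g ∈ G0 ↔ τ (mk g) = 1 := fun g => Iff.rfl
  have hRG : R ≤ G0 := fun r hr => by rw [hG0, mk_eq_one.2 hr, map_one]
  have hsurj : Function.Surjective (θ.comp G0.subtype) := fun a => by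
    obtain ⟨g, rfl⟩ := hθ.surj a
    obtain ⟨q, hq, hqe⟩ := mem_map.1 (τ (mk g)).2
    refine ⟨⟨g * q⁻¹, ?_⟩, ?_⟩
    · rw [hG0, map_mul, map_mul, map_inv, map_inv, hτ _ (mem_map_of_mem mk hq)]
      exact mul_inv_eq_one.2 (Subtype.ext hqe.symm)
    · show θ (g * q⁻¹) = θ g
      rw [map_mul, map_inv, MonoidHom.mem_ker.1 (show q ∈ θ.ker by rw [hθ.ker]; exact hq), inv_one, mul_one]
  have hker : (θ.comp G0.subtype).ker = R.subgroupOf G0 := by
    ext x
    rw [mem_subgroupOf]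
    constructor
    · intro hx
      have hxQ : (x : G) ∈ Q := hθ.ker ▸ MonoidHom.mem_ker.2 (MonoidHom.mem_ker.1 hx :)
      have h1' := (hG0 x).1 x.2
      rw [hτ _ (mem_map_of_mem mk hxQ)] at h1'
      exact mk_eq_one.1 (congrArg Subtype.val h1')
    · intro hx
      exact MonoidHom.mem_ker.2 (MonoidHom.mem_ker.1 (by rw [hθ.ker]; exact hRQ hx) :)
  exact ⟨G0, hRG, ⟨hsurj, hker⟩, ⟨⟨_, ⟨hsurj, hker⟩⟩,
    (h.pgroup.to_le hRQ).of_equiv (subgroupOfEquivOfLe hRG).symm, noSection_subgroup h.rank G0⟩⟩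

end CfsgLib.RankFourL32
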